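import Cfsg.Agent.H533.T5.SporDefs_m3
import Cfsg.Agent.H749.PCl
import Cfsg.Agent.MFive.Fus
import Cfsg.Agent.H546.MFiveFull_m3
import Cfsg.Agent.CoFive.Ranks
import Cfsg.Agent.BpSpor.MFiveHA
import Cfsg.Agent.H800.Sp.NotAb
import Cfsg.Agent.H573.Spor.HNFive
import Cfsg.Agent.FastGrp
import Cfsg.Agent.Prune
set_option linter.all false

section
prune_inst 0x7f00000000000000000000000000000000000000000000000000000000000000000000000000000000000000000000000000000000000000000000000000000000000000000000000000000000000000003fffffffffffffffffffffffffffbeffbdffffffff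

-- part: H609/T5/MFiveA
section
set_option linter.all false
open scoped Cfsg.Agent.FastGrp

-- part: H609/T5/Base
section
/-!
# Tools for the pair rows of the Monster, `p = 5, 7`

* `Al x ρ r` : `r` has a conjugate in `C(x)` outside of the kernel of `ρ`; `Al.wpair`, `Al.conj`, `Al.of_pow`;
* `card_fix_modEq` : fixed points of a `q`-element normalizing a subgroup;
* `sum_fr` : Burnside's lemma on `Λ / 2Λ`.
-/

set_option autoImplicit false

namespace Cfsg.Agent.H609.T5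

open Subgroup Cfsg Cfsg.Agent.H533.T5
open Cfsg.Agent.H749 (PEl)

section al

variable {G : Type*} [Group G] {A : Type*} [Group A] {x : G} {ρ : ↥(centralizer ({x} : Set G)) →* A}

/-- `r` has a conjugate in `C(x)` outside of the kernel of `ρ` -/
def Al (x : G) (ρ : ↥(centralizer ({x} : Set G)) →* A) (r : G) : Prop :=
  ∃ (g : G) (hg : g * r * g⁻¹ ∈ centralizer ({x} : Set G)), ρ ⟨g * r * g⁻¹, hg⟩ ≠ 1

theorem al_of_mem {r : G} (hr : r ∈ centralizer ({x} : Set G)) (h : ρ ⟨r, hr⟩ ≠ 1) : Al x ρ r := by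
  have e : (1 : G) * r * 1⁻¹ = r := by group
  refine ⟨1, by rwa [e], ?_⟩
  have e2 : (⟨1 * r * 1⁻¹, by rwa [e]⟩ : ↥(centralizer ({x} : Set G))) = ⟨r, hr⟩ := Subtype.ext e
  rw [e2]
  exact h

theorem Al.conj {r k : G} (h : Al x ρ (k * r * k⁻¹)) : Al x ρ r := by
  obtain ⟨g, hg, h⟩ := h
  have e : (g * k) * r * (g * k)⁻¹ = g * (k * r * k⁻¹) * g⁻¹ := by group
  refine ⟨g * k, by rwa [e], ?_⟩
  have e2 : (⟨(g * k) * r * (g * k)⁻¹, by rwa [e]⟩ : ↥(centralizer ({x} : Set G))) =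
      ⟨g * (k * r * k⁻¹) * g⁻¹, hg⟩ := Subtype.ext e
  rw [e2]
  exact h

theorem Al.of_conj_eq {r s k : G} (h : Al x ρ s) (hk : k * r * k⁻¹ = s) : Al x ρ r := by
  subst hk
  exact h.conj

theorem Al.conj' {r k : G} (h : Al x ρ r) : Al x ρ (k * r * k⁻¹) :=
  h.of_conj_eq (k := k⁻¹) (by group)

/-- an element with a power in the set, up to conjugation and the order prime to `p` -/
theorem Al.of_pow_centralizer {r : G} {p : ℕ} (hp : p.Prime) (hr : orderOf r = p) {n : ℕ} (h : Al x ρ (r ^ n)) :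
    Al x ρ r := by
  obtain ⟨g, hg, h⟩ := h
  have hn : n.Coprime p := by
    rw [Nat.coprime_comm, hp.coprime_iff_not_dvd]
    rintro ⟨m, rfl⟩
    apply h
    have e : r ^ (p * m) = 1 := by rw [pow_mul, ← hr, pow_orderOf_eq_one, one_pow]
    have e2 : (⟨g * r ^ (p * m) * g⁻¹, hg⟩ : ↥(centralizer ({x} : Set G))) = 1 :=
      Subtype.ext (by
        change g * r ^ (p * m) * g⁻¹ = 1
        rw [e]; group)
    rw [e2, map_one]
  obtain ⟨m, hm⟩ := exists_pow_eq_self_of_coprime (x := r) (n := n) (by rw [hr]; exact hn)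
  have e : (g * r ^ n * g⁻¹) ^ m = g * r * g⁻¹ := by rw [conj_pow, hm]
  have hg' : g * r * g⁻¹ ∈ centralizer ({x} : Set G) := by
    rw [← e]
    exact pow_mem hg m
  refine ⟨g, hg', fun h1 => h ?_⟩
  have e3 : (⟨g * r ^ n * g⁻¹, hg⟩ : ↥(centralizer ({x} : Set G))) = ⟨g * r * g⁻¹, hg'⟩ ^ n :=
    Subtype.ext (by
      rw [Subgroup.coe_pow]
      change g * r ^ n * g⁻¹ = (g * r * g⁻¹) ^ n
      rw [conj_pow])
  rw [e3, map_pow, h1, one_pow]

end al

section fix

variable {D : Type*} [Group D] [Finite D]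

/-- the fixed points of a `q`-element on a subgroup which it normalizes -/
theorem card_fix_modEq {q : ℕ} [hq : Fact q.Prime] {S : Subgroup D} {w : D} (hw : PEl q w)
    (hnorm : ∀ s ∈ S, w * s * w⁻¹ ∈ S) :
    Nat.card ↥S ≡ Nat.card ↥(S ⊓ centralizer ({w} : Set D) : Subgroup D) [MOD q] := by
  have hwN : w ∈ normalizer (S : Set D) := by
    rw [mem_normalizer_iff]
    have hmap : S.map (MulAut.conj w).toMonoidHom = S := by
      refine Subgroup.eq_of_le_of_card_ge ?_ ?_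
      · rintro _ ⟨s, hs, rfl⟩
        exact hnorm s hs
      · rw [card_map_of_injective (MulAut.conj w).injective]
    intro s
    constructor
    · exact hnorm s
    · intro hs
      rw [← hmap] at hs
      obtain ⟨t, ht, e⟩ := hs
      have e' : w * t * w⁻¹ = w * s * w⁻¹ := e
      have e2 : t = s := by simpa using e'
      rwa [← e2]
  have hle : zpowers w ≤ normalizer (S : Set D) := zpowers_le.2 hwN
  let act : MulAction ↥(zpowers w) ↥S :=
    { smul := fun g s => ⟨(g : D) * s * (g : D)⁻¹, (mem_normalizer_iff.1 (hle g.2) s).1 s.2⟩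
      one_smul := fun s => Subtype.ext (by show (1 : D) * s * (1 : D)⁻¹ = s; group)
      mul_smul := fun g h s => Subtype.ext (by
        show ((g : D) * h) * s * ((g : D) * h)⁻¹ = (g : D) * ((h : D) * s * (h : D)⁻¹) * (g : D)⁻¹
        group) }
  have hwp : IsPGroup q ↥(zpowers w) := H749.isPGroup_zpowers hw
  have h1 := hwp.card_modEq_card_fixedPoints (α := ↥S)
  have h2 : Nat.card (MulAction.fixedPoints ↥(zpowers w) ↥S) = Nat.card ↥(S ⊓ centralizer ({w} : Set D) : Subgroup D) := by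
    refine Nat.card_congr
      { toFun := fun s => ⟨(s.1 : D), s.1.2, ?_⟩
        invFun := fun s => ⟨⟨(s : D), s.2.1⟩, ?_⟩
        left_inv := fun s => rfl
        right_inv := fun s => rfl }
    · have h3 := s.2 ⟨w, mem_zpowers w⟩
      have h4 : w * (s.1 : D) * w⁻¹ = s.1 := congrArg Subtype.val h3
      exact mem_centralizer_singleton_iff.2 (mul_inv_eq_iff_eq_mul.1 h4).symm
    · intro g
      apply Subtype.ext
      show (g : D) * s * (g : D)⁻¹ = s
      obtain ⟨i, hi⟩ := mem_zpowers_iff.1 g.2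
      have h3 : Commute w (s : D) := (mem_centralizer_singleton_iff.1 s.2.2).symm
      rw [← hi, mul_inv_eq_iff_eq_mul]
      exact (h3.zpow_left i)
  rw [h2] at h1
  exact h1

end fix

section burnside

open Cfsg.Agent.LThreeMB (fr)
open Cfsg.Agent.MonsterU.Lam2 (L2 card_L2)
open Cfsg.Spor (Co1)

theorem fr_one : fr (1 : Co1) = 2 ^ 24 := by
  rw [fr, ← card_L2]
  exact Nat.card_congr (Equiv.subtypeUnivEquiv fun v => one_smul Co1 v)

theorem finite_L2 : Finite L2 := Nat.finite_of_card_ne_zero (by rw [card_L2]; norm_num)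

/-- **Burnside's lemma on `Λ / 2Λ`.** -/
theorem sum_fr {B : Type*} [Group B] [Fintype B] (φ : B →* Co1) : Fintype.card B ∣ ∑ a : B, fr (φ a) := by
  classical
  have := finite_L2
  have := Fintype.ofFinite L2
  let act : MulAction B L2 := MulAction.compHom L2 φ
  have h1 := MulAction.sum_card_fixedBy_eq_card_orbits_mul_card_group B L2
  have h2 : ∑ a : B, fr (φ a) = ∑ a : B, Fintype.card (MulAction.fixedBy L2 a) := by
    refine Finset.sum_congr rfl fun a _ => ?_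
    rw [fr, ← Nat.card_eq_fintype_card]
    rfl
  rw [h2, h1]
  exact Dvd.intro_left _ rfl

end burnside

end Cfsg.Agent.H609.T5
end

-- part: H609/T5/MFiveA
section
/-!
# The radical `S` of `D = C_M(5B)`, abstractly

In the situation `Rad 5 z x N f` with `A ≅ J2`: `RS` : the map `ρ : D → A` and the radical `S`, `|S| = 5 ^ 7`;
* `RS.cent_seven` : `C_S(w) = ⟨x⟩` for 7-elements `w` outside of the kernel of `ρ`;
* `RS.conj_mul` : if `S` is not abelian, then `r ∈ S ∖ ⟨x⟩` is conjugate to all `r x ^ j`;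
* `RS.exists_five` : `r ∈ S ∖ ⟨x⟩` with `4 ∤ |C_D(r)|` commutes with a 5-element of `C_D(z)` outside of the kernel.
-/

set_option autoImplicit false

namespace Cfsg.Agent.H609.T5.Five

open Subgroup Cfsg Cfsg.Agent.BpTab Cfsg.Agent.BpSpor.M5 Cfsg.Agent.H847
open Cfsg.Agent.H749 (PEl exists_pEl_lift)
open Cfsg.Agent.H847.RadFive (exists_rho index_le card_ker_mul map_eq_one)

universe u v

/-- the map `ρ` and the radical `S` of `D = C(x)` -/
structure RS {D : Type u} [Group D] (z x : D) (N : Subgroup D) {A : Type v} [Group A]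
    (f : ↥(centralizer ({z} : Set D)) →* A) (ρ : D →* A) (S : Subgroup D) : Prop where
  rad : Rad 5 z x N f
  iso : Spor.IsoJ2 A
  surj : Function.Surjective ρ
  ρN : ∀ n ∈ N, ρ n = 1
  ρc : ∀ c : ↥(centralizer ({z} : Set D)), ρ c = f c
  ρz : ρ z = 1
  ρs : ∀ g, ρ g = 1 → g * g ∈ N
  Sn : S.Normal
  Sp : IsPGroup 5 ↥S
  SN : S ≤ N
  xS : x ∈ S
  cS : Nat.card ↥S = 5 ^ 7
  mem : ∀ r : D, orderOf r = 5 → ρ r = 1 → r ∈ S
  cent : ∀ g ∈ centralizer (S : Set D), ρ g = 1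

variable {D : Type u} [Group D] [Finite D] {z x : D} {N : Subgroup D} {A : Type v} [Group A]
  {f : ↥(centralizer ({z} : Set D)) →* A}

/-- **The radical.** -/
theorem exists_RS [hp : Fact (Nat.Prime 5)] [IsSimpleGroup A] (hAc : ¬ Group.IsSolvable A) (hA : Spor.IsoJ2 A)
    (hA3 : ¬ 5 ^ 3 ∣ Nat.card A) (h : Rad 5 z x N f) {k : ↥(centralizer ({z} : Set D))} (hk : (k : D) * k = z)
    (hD4 : 5 ^ 4 ∣ Nat.card D) (hD10 : ¬ 5 ^ 10 ∣ Nat.card D) : ∃ (ρ : D →* A) (S : Subgroup D), RS z x N f ρ S := by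
  have hN := h.nN
  have hcA := JTwoOdd.card_of hA
  obtain ⟨ρ, hρ, hρN, hρc, hρz, hρs⟩ := exists_rho hAc h
  obtain ⟨S, hSn, hSp, hSN, hxS, hS7⟩ := H546.RadSeven.exists_radical_seven hAc h hk (a := 2) hD4 hA3
    (by rw [hcA]; norm_num)
  have hN8 : ¬ 5 ^ 8 ∣ Nat.card ↥N := by
    intro h8
    obtain ⟨m, -, hm⟩ := h.card_N_mul hAc
    apply hD10
    rw [hm, hcA, show 10 = 8 + 2 from rfl, pow_add]
    exact mul_dvd_mul h8 (Dvd.dvd.mul_right (by norm_num) _)
  have hpow : ∀ T : Subgroup D, IsPGroup 5 ↥T → T ≤ N → Nat.card ↥T ≤ 5 ^ 7 := by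
    intro T hT hTN
    obtain ⟨m, hm⟩ := IsPGroup.iff_card.1 hT
    have h1 := card_dvd_of_le hTN
    rw [hm] at h1 ⊢
    refine Nat.pow_le_pow_right (by norm_num) ?_
    by_contra h2
    push Not at h2
    exact hN8 ((pow_dvd_pow 5 h2).trans h1)
  have hS : Nat.card ↥S = 5 ^ 7 := le_antisymm (hpow S hSp hSN) (Nat.le_of_dvd Nat.card_pos hS7)
  refine ⟨ρ, S, h, hA, hρ, hρN, hρc, hρz, hρs, hSn, hSp, hSN, hxS, hS, ?_, ?_⟩
  · intro r hro hr
    have hrN : r ∈ N := by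
      have h1 := hρs r hr
      have h2 : r = (r * r) ^ 3 := by
        have h3 : r ^ 5 = 1 := by rw [← hro, pow_orderOf_eq_one]
        rw [← pow_two, ← pow_mul, show 2 * 3 = 5 + 1 from rfl, pow_succ, h3, one_mul]
      rw [h2]
      exact N.pow_mem h1 3
    have h1 : IsPGroup 5 ↥(zpowers r) := IsPGroup.of_card (n := 1) (by rw [Nat.card_zpowers, hro, pow_one])
    have h2 : IsPGroup 5 ↥(S ⊔ zpowers r : Subgroup D) := hSp.to_sup_of_normal_left h1
    have h3 := hpow _ h2 (sup_le hSN (zpowers_le.2 hrN))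
    have h4 : S = S ⊔ zpowers r := Subgroup.eq_of_le_of_card_ge le_sup_left (by rw [hS]; exact h3)
    rw [h4]
    exact mem_sup_right (mem_zpowers r)
  · -- the centralizer of `S`
    have hBn : (centralizer (S : Set D)).Normal := inferInstance
    have hBs : Group.IsSolvable ↥(centralizer (S : Set D)) := by
      by_contra hns
      obtain ⟨c, hc, n, hn, hz⟩ := h.z_mem_sup (by norm_num) hk (centralizer (S : Set D)) hns
      have h1 : S ≤ zpowers x := by
        intro s hs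
        obtain ⟨i, hi⟩ := h.comm (by norm_num) hn (hSN hs)
        have h2 : s * x ^ i ∈ S := S.mul_mem hs (S.zpow_mem hxS i)
        have h3 : z * s * z⁻¹ = s * x ^ i := by
          rw [hz]
          calc c * n * s * (c * n)⁻¹ = c * (n * s * n⁻¹) * c⁻¹ := by group
            _ = c * (s * x ^ i) * c⁻¹ := by rw [hi]
            _ = (s * x ^ i) * c * c⁻¹ := by rw [← mem_centralizer_iff.1 hc _ h2]
            _ = _ := by group
        rw [h.cent_of_mod (by norm_num) h.zz h3, mul_one, mul_inv_eq_iff_eq_mul] at h3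
        exact h.cN s (hSN hs) h3.symm
      have h2 := card_dvd_of_le h1
      rw [hS, Nat.card_zpowers, h.ox] at h2
      norm_num at h2
    exact map_eq_one hAc ρ hρ _ hBn hBs

variable {ρ : D →* A} {S : Subgroup D}

/-- `5 ^ m ≡ 5 ^ c mod 7` -/
theorem mod_seven {m c : ℕ} (hm1 : 1 ≤ m) (hm : m ≤ 7) (hc : 1 ≤ c) (hc7 : c ≤ 7) (h : 5 ^ m ≡ 5 ^ c [MOD 7]) :
    m = c ∨ (m = 7 ∧ c = 1) ∨ (m = 1 ∧ c = 7) := by
  interval_cases m <;> interval_cases c <;> revert h <;> decide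

/-- **`C_S(w) = ⟨x⟩` for 7-elements `w` outside of the kernel.** -/
theorem RS.cent_seven (h : RS z x N f ρ S) {w : D} (hw : PEl 7 w) (hρw : ρ w ≠ 1) {s : D} (hs : s ∈ S)
    (hws : w * s = s * w) : s ∈ zpowers x := by
  have h5 : Fact (Nat.Prime 5) := ⟨Nat.prime_five⟩
  have h7 : Fact (Nat.Prime 7) := ⟨by norm_num⟩
  have hxw : w * x = x * w := h.rad.xc w
  have h1 := card_fix_modEq hw (S := S) (fun s hs => h.Sn.conj_mem s hs w)
  obtain ⟨c, hc⟩ := IsPGroup.iff_card.mp (h.Sp.to_le (inf_le_left : S ⊓ centralizer ({w} : Set D) ≤ S))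
  have hxm : zpowers x ≤ S ⊓ centralizer ({w} : Set D) :=
    zpowers_le.2 ⟨h.xS, mem_centralizer_singleton_iff.2 hxw.symm⟩
  have hsm : s ∈ S ⊓ centralizer ({w} : Set D) := ⟨hs, mem_centralizer_singleton_iff.2 hws.symm⟩
  have hc7 : c ≤ 7 := by
    have h2 := card_dvd_of_le (inf_le_left : S ⊓ centralizer ({w} : Set D) ≤ S)
    rw [hc, h.cS] at h2
    exact (Nat.pow_dvd_pow_iff_le_right (by norm_num)).1 h2
  have hc1 : 1 ≤ c := by
    have h2 := card_dvd_of_le hxm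
    rw [hc, Nat.card_zpowers, h.rad.ox] at h2
    by_contra h3
    have h4 : c = 0 := by omega
    rw [h4] at h2
    norm_num at h2
  rw [hc, h.cS] at h1
  rcases mod_seven (by norm_num) le_rfl hc1 hc7 h1 with h2 | ⟨-, h2⟩ | ⟨h2, -⟩
  · exfalso
    have h3 : S ⊓ centralizer ({w} : Set D) = S :=
      Subgroup.eq_of_le_of_card_ge inf_le_left (by rw [hc, h.cS, h2])
    apply hρw
    refine h.cent w (mem_centralizer_iff.2 fun a ha => ?_)
    have h4 : a ∈ S ⊓ centralizer ({w} : Set D) := by rw [h3]; exact ha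
    exact mem_centralizer_singleton_iff.1 h4.2
  · have h3 : zpowers x = S ⊓ centralizer ({w} : Set D) :=
      Subgroup.eq_of_le_of_card_ge hxm (by rw [hc, h2, Nat.card_zpowers, h.rad.ox, pow_one])
    rw [h3]
    exact hsm
  · norm_num at h2

/-- there are such elements -/
theorem RS.exists_seven [Finite A] (h : RS z x N f ρ S) : ∃ w : D, PEl 7 w ∧ ρ w ≠ 1 := by
  have h7 : Fact (Nat.Prime 7) := ⟨by norm_num⟩
  obtain ⟨b, hb⟩ := exists_prime_orderOf_dvd_card' 7 (by rw [JTwoOdd.card_of h.iso]; norm_num : 7 ∣ Nat.card A)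
  have hbp : PEl 7 b := ⟨1, by rw [pow_one, ← hb, pow_orderOf_eq_one]⟩
  obtain ⟨w, hw, hwb⟩ := exists_pEl_lift ρ h.surj hbp
  refine ⟨w, hw, ?_⟩
  rw [hwb]
  intro h1
  rw [h1, orderOf_one] at hb
  norm_num at hb

/-- **The center of `S` is `⟨x⟩`** if `S` is not abelian. -/
theorem RS.center_le [Finite A] (h : RS z x N f ρ S) (hna : ∃ a ∈ S, ∃ b ∈ S, a * b ≠ b * a) {s : D} (hs : s ∈ S)
    (hsc : ∀ a ∈ S, a * s = s * a) : s ∈ zpowers x := by
  have h5 : Fact (Nat.Prime 5) := ⟨Nat.prime_five⟩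
  have h7 : Fact (Nat.Prime 7) := ⟨by norm_num⟩
  obtain ⟨w, hw, hρw⟩ := h.exists_seven
  have hSn := h.Sn
  set Z : Subgroup D := S ⊓ centralizer (S : Set D) with hZ
  have hZn : Z.Normal := inferInstance
  have hZx : zpowers x ≤ Z := zpowers_le.2 ⟨h.xS, mem_centralizer_iff.2 fun a _ => h.rad.xc a⟩
  have h1 := card_fix_modEq hw (S := Z) (fun s hs => hZn.conj_mem s hs w)
  have h2 : Z ⊓ centralizer ({w} : Set D) = zpowers x := by
    apply le_antisymm
    · rintro a ⟨ha, haw⟩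
      exact h.cent_seven hw hρw ha.1 (mem_centralizer_singleton_iff.1 haw).symm
    · exact le_inf hZx (zpowers_le.2 (mem_centralizer_singleton_iff.2 (h.rad.xc w).symm))
  obtain ⟨c, hc⟩ := IsPGroup.iff_card.mp (h.Sp.to_le (inf_le_left : Z ≤ S))
  rw [h2, hc, Nat.card_zpowers, h.rad.ox] at h1
  have hc7 : c ≤ 7 := by
    have h3 := card_dvd_of_le (inf_le_left : Z ≤ S)
    rw [hc, h.cS] at h3
    exact (Nat.pow_dvd_pow_iff_le_right (by norm_num)).1 h3
  have hc1 : 1 ≤ c := by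
    have h3 := card_dvd_of_le hZx
    rw [hc, Nat.card_zpowers, h.rad.ox] at h3
    by_contra h4
    have h4 : c = 0 := by omega
    rw [h4] at h3
    norm_num at h3
  rcases mod_seven (c := 1) hc1 hc7 le_rfl (by norm_num) (by rw [pow_one]; exact h1) with h3 | ⟨h3, -⟩ | ⟨-, h3⟩
  · have h4 : zpowers x = Z :=
      Subgroup.eq_of_le_of_card_ge hZx (by rw [hc, h3, Nat.card_zpowers, h.rad.ox, pow_one])
    rw [h4]
    exact ⟨hs, mem_centralizer_iff.2 hsc⟩
  · exfalso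
    have h4 : Z = S := Subgroup.eq_of_le_of_card_ge inf_le_left (by rw [hc, h.cS, h3])
    obtain ⟨a, ha, b, hb, hab⟩ := hna
    have h5 : b ∈ Z := by rw [h4]; exact hb
    exact hab (mem_centralizer_iff.1 h5.2 a ha)
  · norm_num at h3

theorem zpow_gen {x : D} (hx : orderOf x = 5) {i : ℤ} (hi : x ^ i ≠ 1) (j : ℤ) : ∃ n : ℕ, (x ^ i) ^ n = x ^ j := by
  have h5 : Fact (Nat.Prime 5) := ⟨Nat.prime_five⟩
  have h1 : orderOf (x ^ i) = 5 := by
    apply orderOf_eq_prime _ hi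
    rw [← zpow_natCast, ← zpow_mul, mul_comm, zpow_mul, zpow_natCast, ← hx, pow_orderOf_eq_one, one_zpow]
  have h2 : zpowers (x ^ i) = zpowers x := Subgroup.eq_of_le_of_card_ge (zpowers_le.2 (zpow_mem_zpowers x i))
    (by rw [Nat.card_zpowers, Nat.card_zpowers, h1, hx])
  have h3 : x ^ j ∈ zpowers (x ^ i) := by rw [h2]; exact zpow_mem_zpowers x j
  obtain ⟨n, hn⟩ := (mem_powers_iff_mem_zpowers (x := x ^ i) (y := x ^ j)).2 h3
  exact ⟨n, hn⟩

/-- **`r ∈ S ∖ ⟨x⟩` is conjugate to all `r x ^ j`** if `S` is not abelian. -/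
theorem RS.conj_mul [hp : Fact (Nat.Prime 5)] [Finite A] (h : RS z x N f ρ S) (hna : ∃ a ∈ S, ∃ b ∈ S, a * b ≠ b * a)
    {r : D} (hr : r ∈ S) (hrx : r ∉ zpowers x) (j : ℤ) : ∃ g : D, g * r * g⁻¹ = r * x ^ j := by
  have h1 : ∃ a ∈ S, a * r ≠ r * a := by
    by_contra h2
    push Not at h2
    exact hrx (h.center_le hna hr h2)
  obtain ⟨a, ha, har⟩ := h1
  obtain ⟨i, hi⟩ := h.rad.comm (by norm_num) (h.SN ha) (h.SN hr)
  have hi1 : x ^ i ≠ 1 := by
    intro h2
    rw [h2, mul_one, mul_inv_eq_iff_eq_mul] at hi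
    exact har hi
  obtain ⟨n, hn⟩ := zpow_gen h.rad.ox hi1 j
  have key : ∀ n : ℕ, a ^ n * r * (a ^ n)⁻¹ = r * (x ^ i) ^ n := by
    intro n
    induction n with
    | zero => simp
    | succ n ih =>
      have e1 : (x ^ i) ^ n = x ^ (i * n) := by rw [zpow_mul, zpow_natCast]
      calc a ^ (n + 1) * r * (a ^ (n + 1))⁻¹ = a * (a ^ n * r * (a ^ n)⁻¹) * a⁻¹ := by
            rw [pow_succ' a]; group
        _ = a * (r * (x ^ i) ^ n) * a⁻¹ := by rw [ih]
        _ = (a * r) * ((x ^ i) ^ n * a⁻¹) := by group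
        _ = (a * r) * (a⁻¹ * (x ^ i) ^ n) := by rw [e1, h.rad.xzc]
        _ = (a * r * a⁻¹) * (x ^ i) ^ n := by group
        _ = r * (x ^ i * (x ^ i) ^ n) := by rw [hi]; group
        _ = _ := by rw [← pow_succ']
  exact ⟨a ^ n, by rw [key, hn]⟩

/-- `n ↦ n r n⁻¹ r⁻¹` on `N` has kernel of index 5 -/
theorem RS.card_cent [hp : Fact (Nat.Prime 5)] (h : RS z x N f ρ S) {r a : D} (hr : r ∈ S) (ha : a ∈ S)
    (har : a * r ≠ r * a) : Nat.card ↥N = Nat.card ↥(N ⊓ centralizer ({r} : Set D) : Subgroup D) * 5 := by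
  have key : ∀ n : ↥N, ∃ i : ℤ, (n : D) * r * (n : D)⁻¹ * r⁻¹ = x ^ i := by
    intro n
    obtain ⟨i, hi⟩ := h.rad.comm (by norm_num) n.2 (h.SN hr)
    exact ⟨i, by rw [hi, h.rad.xzc]; group⟩
  let φ : ↥N →* D := MonoidHom.mk' (fun n => (n : D) * r * (n : D)⁻¹ * r⁻¹) (by
    intro n m
    obtain ⟨i, hi⟩ := key m
    show ((n : D) * m) * r * ((n : D) * m)⁻¹ * r⁻¹ = ((n : D) * r * (n : D)⁻¹ * r⁻¹) * ((m : D) * r * (m : D)⁻¹ * r⁻¹)
    have e : (m : D) * r * (m : D)⁻¹ = x ^ i * r := by rw [← hi]; group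
    calc ((n : D) * m) * r * ((n : D) * m)⁻¹ * r⁻¹ = (n : D) * (m * r * (m : D)⁻¹) * (n : D)⁻¹ * r⁻¹ := by group
      _ = ((n : D) * x ^ i) * r * (n : D)⁻¹ * r⁻¹ := by rw [e]; group
      _ = x ^ i * ((n : D) * r * (n : D)⁻¹ * r⁻¹) := by rw [h.rad.xzc]; group
      _ = ((n : D) * r * (n : D)⁻¹ * r⁻¹) * x ^ i := by rw [h.rad.xzc]
      _ = _ := by rw [← hi])
  have hφ : ∀ n : ↥N, φ n = (n : D) * r * (n : D)⁻¹ * r⁻¹ := fun n => rfl
  have h1 := card_ker_mul φ
  have h2 : φ.range ≤ zpowers x := by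
    rintro _ ⟨n, rfl⟩
    obtain ⟨i, hi⟩ := key n
    rw [hφ, hi]
    exact zpow_mem_zpowers x i
  have h3 : Nat.card ↥φ.range = 5 := by
    have h4 := card_dvd_of_le h2
    rw [Nat.card_zpowers, h.rad.ox] at h4
    rcases (Nat.dvd_prime hp.out).1 h4 with h5 | h5
    · exfalso
      rw [Subgroup.card_eq_one] at h5
      have h6 : φ ⟨a, h.SN ha⟩ ∈ φ.range := ⟨_, rfl⟩
      rw [h5, mem_bot, hφ] at h6
      apply har
      calc a * r = (a * r * a⁻¹ * r⁻¹) * r * a := by group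
        _ = r * a := by rw [show a * r * a⁻¹ * r⁻¹ = 1 from h6, one_mul]
    · exact h5
  have h4 : Nat.card ↥φ.ker = Nat.card ↥(N ⊓ centralizer ({r} : Set D) : Subgroup D) := by
    have h5 : (φ.ker).map N.subtype = N ⊓ centralizer ({r} : Set D) := by
      ext g
      rw [mem_map]
      constructor
      · rintro ⟨n, hn, rfl⟩
        refine ⟨n.2, mem_centralizer_singleton_iff.2 ?_⟩
        have h6 : (n : D) * r * (n : D)⁻¹ * r⁻¹ = 1 := hn
        show (n : D) * r = r * n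
        calc (n : D) * r = ((n : D) * r * (n : D)⁻¹ * r⁻¹) * r * n := by group
          _ = r * n := by rw [h6, one_mul]
      · rintro ⟨hg, hgr⟩
        refine ⟨⟨g, hg⟩, ?_, rfl⟩
        rw [MonoidHom.mem_ker, hφ]
        show g * r * g⁻¹ * r⁻¹ = 1
        rw [mem_centralizer_singleton_iff.1 hgr]
        group
    rw [← h5, card_map_of_injective N.subtype_injective]
  rw [← h1, h3, h4]

theorem le54 {n : ℕ} (h : n ∣ 604800) (h4 : ¬ 4 ∣ n) (h5 : ¬ 5 ∣ n) (h7 : ¬ 7 ∣ n) : n ≤ 54 := by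
  have c5 : n.Coprime 25 := by
    rw [show 25 = 5 ^ 2 from rfl]
    exact Nat.Coprime.pow_right 2 ((Nat.Prime.coprime_iff_not_dvd Nat.prime_five).2 h5).symm
  have c7 : n.Coprime 7 := ((Nat.Prime.coprime_iff_not_dvd (by norm_num)).2 h7).symm
  have h1 : n ∣ 3456 := by
    have h2 : n ∣ 3456 * 25 * 7 := by norm_num; exact h
    exact c5.dvd_of_dvd_mul_right (c7.dvd_of_dvd_mul_right h2)
  have h2 : n ∣ 2 ^ 7 * 27 := by norm_num; exact h1
  obtain ⟨a, b, ha, hb, rfl⟩ := (Nat.dvd_mul).1 h2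
  obtain ⟨i, -, rfl⟩ := (Nat.dvd_prime_pow Nat.prime_two).1 ha
  have hi : i ≤ 1 := by
    by_contra h3
    apply h4
    have h5 : 2 ^ 2 ∣ 2 ^ i := pow_dvd_pow 2 (by omega)
    exact Dvd.dvd.mul_right h5 b
  have hb' := Nat.le_of_dvd (by norm_num) hb
  have h3 : 2 ^ i ≤ 2 ^ 1 := Nat.pow_le_pow_right (by norm_num) hi
  calc 2 ^ i * b ≤ 2 ^ 1 * 27 := Nat.mul_le_mul h3 hb'
    _ = 54 := by norm_num

/-- elements of `ker ρ ∩ C(r)` are in `N` -/
theorem RS.mem_N [hp : Fact (Nat.Prime 5)] (h : RS z x N f ρ S) {r : D} (hro : orderOf r = 5) (hr : r ∈ S) (hrx : r ∉ zpowers x)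
    {g : D} (hg : ρ g = 1) (hgr : g * r = r * g) : g ∈ N := by
  obtain ⟨n, hn, c, hc, rfl⟩ := h.rad.sup g
  have h1 : f ⟨c, mem_centralizer_singleton_iff.2 hc⟩ = 1 := by
    rw [← h.ρc]
    rw [map_mul, h.ρN n hn, one_mul] at hg
    exact hg
  obtain ⟨i, hi⟩ := h.rad.ker _ h1
  have hi' : c = x ^ i ∨ c = x ^ i * z := hi
  rcases hi' with hi | hi
  · rw [hi]
    exact N.mul_mem hn (N.zpow_mem h.rad.xN i)
  · exfalso
    obtain ⟨j, hj⟩ := h.rad.inv (by norm_num) (h.SN hr)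
    have hm : n * x ^ i ∈ N := N.mul_mem hn (N.zpow_mem h.rad.xN i)
    obtain ⟨l, hl⟩ := h.rad.comm (by norm_num) hm (N.inv_mem (h.SN hr))
    have e1 : n * c * r * (n * c)⁻¹ = r := by rw [hgr]; group
    have e2 : n * c * r * (n * c)⁻¹ = r⁻¹ * (x ^ l * x ^ j) := by
      rw [hi]
      calc n * (x ^ i * z) * r * (n * (x ^ i * z))⁻¹ = (n * x ^ i) * (z * r * z⁻¹) * (n * x ^ i)⁻¹ := by group
        _ = (n * x ^ i) * r⁻¹ * (x ^ j * (n * x ^ i)⁻¹) := by rw [hj]; group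
        _ = (n * x ^ i) * r⁻¹ * ((n * x ^ i)⁻¹ * x ^ j) := by rw [h.rad.xzc j (n * x ^ i)⁻¹]
        _ = ((n * x ^ i) * r⁻¹ * (n * x ^ i)⁻¹) * x ^ j := by group
        _ = _ := by rw [hl, mul_assoc]
    rw [e1] at e2
    have e3 : r * r ∈ zpowers x := by
      have e4 : r * r = x ^ (l + j) := by
        rw [zpow_add]
        nth_rewrite 2 [e2]
        group
      rw [e4]
      exact zpow_mem_zpowers x _
    apply hrx
    have h3 : r ^ 5 = 1 := by rw [← hro, pow_orderOf_eq_one]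
    have h2 : r = (r * r) ^ 3 := by
      rw [← pow_two, ← pow_mul, show 2 * 3 = 5 + 1 from rfl, pow_succ, h3, one_mul]
    rw [h2]
    exact (zpowers x).pow_mem e3 3

/-- an element of `C(r)` can be moved to `C(z)` modulo `N` -/
theorem RS.exists_cz [hp : Fact (Nat.Prime 5)] (h : RS z x N f ρ S) {r : D} (hr : r ∈ S) {g : D} (hgr : g * r = r * g) :
    ∃ c : ↥(centralizer ({z} : Set D)), (c : D) * r = r * c ∧ ρ c = ρ g := by
  obtain ⟨n, hn, c, hc, rfl⟩ := h.rad.sup g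
  obtain ⟨i, hi⟩ := h.rad.comm (by norm_num) (N.inv_mem hn) (h.SN hr)
  have h1 : c * r * c⁻¹ = r * x ^ i := by
    rw [← hi]
    calc c * r * c⁻¹ = n⁻¹ * (n * c * r) * (n * c)⁻¹ * n := by group
      _ = _ := by rw [hgr]; group
  rw [h.rad.cent_of_z (by norm_num) (h.SN hr) hc h1, mul_one, mul_inv_eq_iff_eq_mul] at h1
  refine ⟨⟨c, mem_centralizer_singleton_iff.2 hc⟩, h1, ?_⟩
  rw [map_mul, h.ρN n hn, one_mul]

/-- **The counting argument.** -/
theorem RS.five_dvd [hp : Fact (Nat.Prime 5)] [Finite A] (h : RS z x N f ρ S)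
    (hna : ∃ a ∈ S, ∃ b ∈ S, a * b ≠ b * a) {r : D} (hro : orderOf r = 5) (hr : r ∈ S) (hrx : r ∉ zpowers x)
    (h4 : ¬ 4 ∣ Nat.card ↥(centralizer ({r} : Set D))) :
    5 ∣ Nat.card ↥((centralizer ({r} : Set D)).map ρ) := by
  by_contra h5
  have h7 : Fact (Nat.Prime 7) := ⟨by norm_num⟩
  have hcA := JTwoOdd.card_of h.iso
  set C := centralizer ({r} : Set D) with hCdef
  set H : Subgroup A := C.map ρ with hH
  have hr1 : r ≠ 1 := by
    intro h1
    rw [h1, orderOf_one] at hro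
    norm_num at hro
  have hH7 : ¬ 7 ∣ Nat.card ↥H := by
    intro h
    rename_i h'
    obtain ⟨b, hb⟩ := exists_prime_orderOf_dvd_card' 7 h
    have hbp : PEl 7 b := ⟨1, by rw [pow_one, ← hb, pow_orderOf_eq_one]⟩
    obtain ⟨w, hw, hwb⟩ := exists_pEl_lift (ρ.subgroupMap C) (ρ.subgroupMap_surjective C) hbp
    have hwE : PEl 7 (w : D) := by
      obtain ⟨n, hn⟩ := hw
      exact ⟨n, by rw [← SubmonoidClass.coe_pow, hn]; rfl⟩
    have hwr : (w : D) * r = r * w := mem_centralizer_singleton_iff.1 w.2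
    apply hrx
    refine h'.cent_seven hwE ?_ hr hwr
    intro h3
    have h4 : b = 1 := by
      rw [← hwb]
      exact Subtype.ext h3
    rw [h4, orderOf_one] at hb
    norm_num at hb
  have hH4 : ¬ 4 ∣ Nat.card ↥H := fun h1 => h4 (h1.trans (card_map_dvd C ρ))
  have hHd : Nat.card ↥H ∣ 604800 := by
    rw [← hcA]
    exact H.card_subgroup_dvd_card
  have h54 := le54 hHd hH4 h5 hH7
  -- orders
  let ρC : ↥C →* A := ρ.comp C.subtype
  have hr2 : ρC.range = H := by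
    rw [MonoidHom.range_comp, Subgroup.range_subtype]
  have hc1 := card_ker_mul ρC
  have hc2 := card_ker_mul ρ
  rw [hr2] at hc1
  rw [MonoidHom.range_eq_top.2 h.surj, card_top, hcA] at hc2
  obtain ⟨a, ha, har⟩ : ∃ a ∈ S, a * r ≠ r * a := by
    by_contra h2
    push Not at h2
    exact hrx (h.center_le hna hr h2)
  have hN5 := h.card_cent hr ha har
  have hk1 : Nat.card ↥ρC.ker ≤ Nat.card ↥(N ⊓ C : Subgroup D) := by
    refine Nat.card_le_card_of_injective (fun g : ↥ρC.ker => (⟨((g : ↥C) : D), ?_, (g : ↥C).2⟩ : ↥(N ⊓ C : Subgroup D))) ?_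
    · exact h.mem_N hro hr hrx g.2 (mem_centralizer_singleton_iff.1 (g : ↥C).2)
    · intro a b hab
      exact Subtype.ext (Subtype.ext (congrArg (fun t : ↥(N ⊓ C : Subgroup D) => (t : D)) hab))
  have hk3 : 2 * Nat.card ↥N ∣ Nat.card ↥ρ.ker := by
    refine Nat.Coprime.mul_dvd_of_dvd_of_dvd (Nat.coprime_two_left.2 h.rad.oN) ?_ ?_
    · have h3 : orderOf (⟨z, h.ρz⟩ : ↥ρ.ker) = 2 := by
        refine orderOf_eq_prime (Subtype.ext ?_) ?_
        · show z ^ 2 = 1
          rw [pow_two, h.rad.zz]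
        · intro h4
          exact h.rad.z1 (congrArg Subtype.val h4)
      rw [← h3]
      exact orderOf_dvd_natCard _
    · exact card_dvd_of_le fun n hn => h.ρN n hn
  have hk4 := Nat.le_of_dvd Nat.card_pos hk3
  have hidx : C.index ≤ 78124 := by
    have h1 := index_le S h.Sn hr hr1
    rw [h.cS] at h1
    exact h1
  have hc3 := C.card_mul_index
  have hpos : 0 < Nat.card ↥ρC.ker := Nat.card_pos
  have hfin : 6048000 * Nat.card ↥ρC.ker ≤ 54 * 78124 * Nat.card ↥ρC.ker := by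
    calc 6048000 * Nat.card ↥ρC.ker ≤ 6048000 * Nat.card ↥(N ⊓ C : Subgroup D) := Nat.mul_le_mul_left _ hk1
      _ = 2 * (Nat.card ↥(N ⊓ C : Subgroup D) * 5) * 604800 := by ring
      _ = 2 * Nat.card ↥N * 604800 := by rw [← hN5]
      _ ≤ Nat.card ↥ρ.ker * 604800 := Nat.mul_le_mul_right _ hk4
      _ = Nat.card ↥ρC.ker * Nat.card ↥H * C.index := by rw [hc2, hc1, hc3]
      _ ≤ Nat.card ↥ρC.ker * 54 * 78124 := Nat.mul_le_mul (Nat.mul_le_mul_left _ h54) hidx
      _ = _ := by ring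
  omega

/-- **A 5-element of `C_D(z) ∩ C(r)` outside of the kernel.** -/
theorem RS.exists_five [hp : Fact (Nat.Prime 5)] [Finite A] (h : RS z x N f ρ S)
    (hna : ∃ a ∈ S, ∃ b ∈ S, a * b ≠ b * a) {r : D} (hro : orderOf r = 5) (hr : r ∈ S) (hrx : r ∉ zpowers x)
    (h4 : ¬ 4 ∣ Nat.card ↥(centralizer ({r} : Set D))) :
    ∃ w : ↥(centralizer ({z} : Set D)), PEl 5 w ∧ (w : D) * r = r * w ∧ ρ w ≠ 1 ∧ ρ w ^ 5 = 1 := by
  obtain ⟨b, hb⟩ := exists_prime_orderOf_dvd_card' 5 (h.five_dvd hna hro hr hrx h4)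
  have hbo : orderOf (b : A) = 5 := by rw [Subgroup.orderOf_coe, hb]
  let ψ : ↥(centralizer ({z} : Set D)) →* A := ρ.comp (centralizer ({z} : Set D)).subtype
  let C' : Subgroup ↥(centralizer ({z} : Set D)) := (centralizer ({r} : Set D)).subgroupOf (centralizer ({z} : Set D))
  have hbC : (b : A) ∈ C'.map ψ := by
    obtain ⟨g, hg, hgb⟩ := b.2
    obtain ⟨c, hcr, hc⟩ := h.exists_cz hr (mem_centralizer_singleton_iff.1 hg)
    exact ⟨c, mem_subgroupOf.2 (mem_centralizer_singleton_iff.2 hcr), hc.trans hgb⟩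
  have hbp : PEl 5 (⟨b, hbC⟩ : ↥(C'.map ψ)) := ⟨1, Subtype.ext (by
    show (b : A) ^ 5 ^ 1 = 1
    rw [pow_one, ← hbo, pow_orderOf_eq_one])⟩
  obtain ⟨w, hw, hwb⟩ := exists_pEl_lift (ψ.subgroupMap C') (ψ.subgroupMap_surjective C') hbp
  have hwb' : ρ ((w : ↥(centralizer ({z} : Set D))) : D) = b := congrArg Subtype.val hwb
  refine ⟨w, ?_, mem_centralizer_singleton_iff.1 (mem_subgroupOf.1 w.2), ?_, ?_⟩
  · obtain ⟨n, hn⟩ := hw
    exact ⟨n, by rw [← SubmonoidClass.coe_pow, hn]; rfl⟩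
  · rw [hwb']
    intro h1
    rw [h1, orderOf_one] at hbo
    norm_num at hbo
  · rw [hwb', ← hbo, pow_orderOf_eq_one]

end Cfsg.Agent.H609.T5.Five
end

private theorem dce_dd35649ab94f : _root_.True := by
  try have : _root_.True := by simp only [_root_.Cfsg.Agent.LThreeMB.fr.eq_1]
  exact _root_.True.intro
end

-- part: H609/T5/MFiveC
section
set_option linter.all false
open scoped Cfsg.Agent.FastGrp

-- part: H609/T5/MFiveB
section
/-!
# Elements of order 5 of `Co1`, lifts to `C(z)`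

* `fr_le_pow`, `exists_fr_ne` : Burnside's lemma for `⟨s, t⟩`, `s` of fixed rank 0;
* `exists_lifts` : a 5-subgroup of `C(z)` covering the Sylow 5-subgroup of `Co1`.
-/

set_option autoImplicit false

namespace Cfsg.Agent.H609.T5.Five

open Cfsg Cfsg.Agent.LThreeCo1.Ev Cfsg.Agent.CoFive.Abs Cfsg.Agent.CoFive.Rel Cfsg.Agent.CoFive.Class
open Cfsg.Agent.CoFive.Ranks Cfsg.Agent.CoFive.Sylow
open Cfsg.Agent.LThreeMB (fr)
open Cfsg.Agent.MonsterU.Ch
open Cfsg.Agent.MonsterU.Lam2 (L2 card_L2)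
open Cfsg.Agent.MFive (exists_conj_of_pi_eq orderOf_pi)
open Cfsg.Spor (Co1)
open Subgroup (centralizer zpowers mem_centralizer_singleton_iff)

section burnside

theorem fr_le_pow (g : Co1) (n : ℕ) : fr g ≤ fr (g ^ n) := by
  have := finite_L2
  refine Nat.card_le_card_of_injective (fun v : {v : L2 // g • v = v} => (⟨v.1, ?_⟩ : {v : L2 // g ^ n • v = v})) ?_
  · have h1 := v.2
    induction n with
    | zero => rw [pow_zero, one_smul]
    | succ n ih => rw [pow_succ, mul_smul, h1, ih]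
  · intro a b hab
    exact Subtype.ext (congrArg (fun t : {v : L2 // g ^ n • v = v} => (t : L2)) hab)

theorem fr_pos (g : Co1) : 1 ≤ fr g := by
  have := finite_L2
  have : Nonempty {v : L2 // g • v = v} := ⟨⟨0, smul_zero g⟩⟩
  exact Nat.card_pos

theorem exists_mul_eq_five : ∀ a : ZMod 25, a ≠ 0 → ∃ m : Fin 25, a.val * m.val % 25 = 5 := by decide +kernel

theorem pow_eq_of_mod {H : Type*} [Group H] {g : H} {n : ℕ} (hg : g ^ n = 1) {a b : ℕ} (h : a % n = b % n) :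
    g ^ a = g ^ b := by
  rw [← Nat.mod_add_div a n, ← Nat.mod_add_div b n, pow_add, pow_add, pow_mul, pow_mul, hg, one_pow, one_pow, h]

/-- no element of order 25 with fixed rank 0 -/
theorem no_twentyfive {t : Co1} (ht : t ^ 25 = 1) (hfr : fr (t ^ 5) = 1) : False := by
  let φ : Multiplicative (ZMod 25) →* Co1 := MonoidHom.mk' (fun a => t ^ (Multiplicative.toAdd a).val) (by
    intro a b
    show t ^ (Multiplicative.toAdd a + Multiplicative.toAdd b).val = t ^ (Multiplicative.toAdd a).val * t ^ (Multiplicative.toAdd b).val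
    rw [← pow_add]
    apply pow_eq_of_mod ht
    rw [ZMod.val_add, Nat.mod_mod])
  have hφ : ∀ a, φ a = t ^ (Multiplicative.toAdd a).val := fun a => rfl
  have h1 := sum_fr φ
  have h2 : ∀ a : Multiplicative (ZMod 25), a ≠ 1 → fr (φ a) = 1 := by
    intro a ha
    obtain ⟨m, hm⟩ := exists_mul_eq_five (Multiplicative.toAdd a) (fun h => ha (by
      rw [← ofAdd_toAdd a, h]; rfl))
    apply le_antisymm _ (fr_pos _)
    refine (fr_le_pow (φ a) m.val).trans ?_
    have h3 : φ a ^ m.val = t ^ 5 := by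
      rw [hφ, ← pow_mul]
      exact pow_eq_of_mod ht hm
    rw [h3, hfr]
  have h3 : ∑ a : Multiplicative (ZMod 25), fr (φ a) = 2 ^ 24 + 24 := by
    have h4 : ∑ a ∈ Finset.univ.erase (1 : Multiplicative (ZMod 25)), fr (φ a) = 24 := by
      rw [Finset.sum_congr rfl (fun a ha => h2 a (Finset.ne_of_mem_erase ha)), Finset.sum_const,
        Finset.card_erase_of_mem (Finset.mem_univ 1), Finset.card_univ, Fintype.card_multiplicative, ZMod.card, smul_eq_mul]
    rw [← Finset.add_sum_erase Finset.univ (fun a => fr (φ a)) (Finset.mem_univ 1), h4, map_one, fr_one]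
  rw [h3, Fintype.card_multiplicative, ZMod.card] at h1
  norm_num at h1

theorem inv5 : ∀ b : ZMod 5, b ≠ 0 → ∃ m : Fin 5, b.val * m.val % 5 = 1 := by decide +kernel

/-- **Not all elements of `⟨s, t⟩ ∖ ⟨s⟩` have fixed rank 8**, `s` of fixed rank 0. -/
theorem exists_fr_ne {s t : Co1} (hs : s ^ 5 = 1) (ht : t ^ 5 = 1) (hst : s * t = t * s) (hfr : fr s = 1) :
    ∃ i : ℕ, fr (s ^ i * t) ≠ 2 ^ 8 := by
  by_contra hcon
  push Not at hcon
  have hc : Commute s t := hst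
  let φ : Multiplicative (ZMod 5 × ZMod 5) →* Co1 :=
    MonoidHom.mk' (fun a => s ^ (Multiplicative.toAdd a).1.val * t ^ (Multiplicative.toAdd a).2.val) (by
    intro a b
    show s ^ ((Multiplicative.toAdd a).1 + (Multiplicative.toAdd b).1).val *
      t ^ ((Multiplicative.toAdd a).2 + (Multiplicative.toAdd b).2).val = _
    have e1 : ∀ x : Co1, x ^ 5 = 1 → ∀ u v : ZMod 5, x ^ (u + v).val = x ^ u.val * x ^ v.val := by
      intro x hx u v
      rw [← pow_add]
      apply pow_eq_of_mod hx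
      rw [ZMod.val_add, Nat.mod_mod]
    rw [e1 s hs, e1 t ht]
    exact step (hc.pow_pow _ _))
  have hφ : ∀ a, φ a = s ^ (Multiplicative.toAdd a).1.val * t ^ (Multiplicative.toAdd a).2.val := fun a => rfl
  have h1 := sum_fr φ
  have hF : ∀ a : ZMod 5 × ZMod 5, fr (φ (Multiplicative.ofAdd a)) =
      if a = 0 then 2 ^ 24 else if a.2 = 0 then 1 else 2 ^ 8 := by
    intro a
    by_cases h0 : a = 0
    · rw [if_pos h0, h0, ofAdd_zero, map_one, fr_one]
    rw [if_neg h0]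
    have hφa : φ (Multiplicative.ofAdd a) = s ^ a.1.val * t ^ a.2.val := rfl
    by_cases h2 : a.2 = 0
    · rw [if_pos h2, hφa, h2, ZMod.val_zero, pow_zero, mul_one]
      have h3 : a.1 ≠ 0 := fun h => h0 (Prod.ext h h2)
      obtain ⟨m, hm⟩ := inv5 a.1 h3
      apply le_antisymm _ (fr_pos _)
      refine (fr_le_pow _ m.val).trans ?_
      have h4 : (s ^ a.1.val) ^ m.val = s := by
        rw [← pow_mul, pow_eq_of_mod hs (b := 1) hm, pow_one]
      rw [h4, hfr]
    · rw [if_neg h2]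
      obtain ⟨m, hm⟩ := inv5 a.2 h2
      have h4 : (s ^ a.1.val * t ^ a.2.val) ^ m.val = s ^ (a.1.val * m.val) * t := by
        rw [(hc.pow_pow _ _).mul_pow, ← pow_mul, ← pow_mul, pow_eq_of_mod ht (b := 1) hm, pow_one]
      have h5 : (s ^ (a.1.val * m.val) * t) ^ a.2.val = s ^ a.1.val * t ^ a.2.val := by
        rw [← h4, ← pow_mul]
        have h6 : (s ^ a.1.val * t ^ a.2.val) ^ 5 = 1 := by
          rw [(hc.pow_pow _ _).mul_pow, ← pow_mul, ← pow_mul, mul_comm a.1.val, mul_comm a.2.val, pow_mul, pow_mul,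
            hs, ht, one_pow, one_pow, one_mul]
        rw [pow_eq_of_mod h6 (b := 1) (by rw [mul_comm]; exact hm), pow_one]
      rw [hφa]
      apply le_antisymm
      · refine (fr_le_pow _ m.val).trans ?_
        rw [h4, hcon]
      · rw [← hcon (a.1.val * m.val)]
        refine (fr_le_pow _ a.2.val).trans ?_
        rw [h5]
  have h3 : ∑ a : Multiplicative (ZMod 5 × ZMod 5), fr (φ a) = 2 ^ 24 + 4 + 20 * 2 ^ 8 := by
    have h4 : ∑ a : Multiplicative (ZMod 5 × ZMod 5), fr (φ a) =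
        ∑ a : ZMod 5 × ZMod 5, fr (φ (Multiplicative.ofAdd a)) :=
      (Equiv.sum_comp Multiplicative.ofAdd (fun a => fr (φ a))).symm
    rw [h4, Finset.sum_congr rfl (fun a _ => hF a)]
    decide +kernel
  rw [h3, Fintype.card_multiplicative, Fintype.card_prod, ZMod.card] at h1
  norm_num at h1

end burnside

section lifts

variable {G : Type*} [Group G] {Q : Subgroup G} {z : G} {eta : G → L2}
  {pi : Subgroup.centralizer ({z} : Set G) →* Co1}

/-- **A 5-subgroup of `C(z)` over the Sylow 5-subgroup of `Co1`.** -/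
theorem exists_P [Finite G] (h : Chart Q z eta pi) : ∃ P : Subgroup ↥(centralizer ({z} : Set G)), IsPGroup 5 ↥P ∧
    (∀ g ∈ S5, ∃ y ∈ P, pi y = QuotientGroup.mk g) ∧ ∀ y ∈ P, pi y = 1 → y = 1 := by
  have h5 : Fact (Nat.Prime 5) := ⟨Nat.prime_five⟩
  have hfin : Finite Co1 := Finite.of_surjective pi h.pi_surj
  have hfc : Finite Co0 := finite_co0
  obtain ⟨P₀⟩ : Nonempty (Sylow 5 ↥(centralizer ({z} : Set G))) := inferInstance
  have hSp : IsPGroup 5 ↥(S5.map (QuotientGroup.mk' (Subgroup.center Co0))) := IsPGroup.of_card card_map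
  obtain ⟨R, hR⟩ := hSp.exists_le_sylow
  obtain ⟨g, hg⟩ := MulAction.exists_smul_eq Co1 (P₀.mapSurjective h.pi_surj) R
  obtain ⟨c, hc⟩ := h.pi_surj g
  refine ⟨(P₀ : Subgroup ↥(centralizer ({z} : Set G))).map (MulAut.conj c).toMonoidHom, P₀.isPGroup'.map _, ?_, ?_⟩
  · intro a ha
    have h1 : (QuotientGroup.mk a : Co1) ∈ (R : Subgroup Co1) := hR ⟨a, ha, rfl⟩
    rw [← hg] at h1
    obtain ⟨b, hb, hba⟩ := h1
    obtain ⟨y, hy, rfl⟩ := hb
    refine ⟨c * y * c⁻¹, ⟨y, hy, rfl⟩, ?_⟩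
    rw [map_mul, map_mul, map_inv, hc]
    exact hba
  · rintro _ ⟨y, hy, rfl⟩ h1
    have h2 : pi (c * y * c⁻¹) = 1 := h1
    have h3 : pi y = 1 := by
      rw [map_mul, map_mul, map_inv] at h2
      exact conj_eq_one_iff.1 h2
    have h4 : (y : G) ∈ Q := (h.pi_eq_one y).1 h3
    obtain ⟨n, hn⟩ := P₀.isPGroup' ⟨y, hy⟩
    have h5 : y ^ 5 ^ n = 1 := congrArg Subtype.val hn
    have h6 : (y : G) ^ 5 ^ n = 1 := by
      have := congrArg Subtype.val h5
      rwa [SubmonoidClass.coe_pow] at this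
    have h7 : y = 1 := Subtype.ext (MFive.eq_one_of_pow (Odd.pow (by decide)) h6 (MFive.pow_four h h4))
    show (MulAut.conj c) y = 1
    rw [h7, map_one]

/-- the elements `a`, `b`, `c`, `u` -/
structure Lifts (pi : Subgroup.centralizer ({z} : Set G) →* Co1) (P : Subgroup ↥(centralizer ({z} : Set G)))
    (x a b c u : ↥(centralizer ({z} : Set G))) : Prop where
  hP : IsPGroup 5 ↥P
  xP : x ∈ P
  aP : a ∈ P
  bP : b ∈ P
  cP : c ∈ P
  uP : u ∈ P
  fx : fr (pi x) = 1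
  fa : fr (pi a) = 2 ^ 4
  fb : fr (pi b) = 2 ^ 8
  fc : fr (pi c) = 2 ^ 8
  ox : orderOf x = 5
  oa : orderOf a = 5
  ob : orderOf b = 5
  oc : orderOf c = 5
  xa : a * x = x * a
  xc : c * x = x * c
  ab : a * b = b * a
  ac : a * c = c * a
  au : a * u = u * a
  bcu : b = u * c * u⁻¹ * c⁻¹

theorem isConj_b : IsConj (e 2) r8 := by
  have h1 := isConj_path [6, 4, 4] (by decide) ((0, 1, 0) : V)
  have h2 : ([6, 4, 4].foldl (fun w g => act g w) ((0, 1, 0) : V)) = (0, 0, 1) := by decide +kernel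
  rw [h2, ← r8_eq] at h1
  have h3 : P (0, 1, 0) = e 2 := by
    have h4 : (1 : ZMod 5).val = 1 := rfl
    simp [P, Ph, h4]
  rwa [h3] at h1

theorem exists_lifts [Finite G] (h : Chart Q z eta pi) : ∃ P x a b c u, Lifts pi P x a b c u := by
  have hp := Nat.prime_five
  have hf5 : Fact (Nat.Prime 5) := ⟨hp⟩
  obtain ⟨P, hP, hl, hi⟩ := exists_P h
  have mem : ∀ v : V, CoFive.Class.P v ∈ S5 := fun v => mem_S5.2 ⟨v, 0, by
    rw [ZMod.val_zero, pow_zero, mul_one]⟩
  have m1 : e 1 ∈ S5 := by have := mem (1, 0, 0); rwa [← r4_eq] at this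
  have m3 : e 3 ∈ S5 := by have := mem (0, 0, 1); rwa [← r8_eq] at this
  have m2 : e 2 ∈ S5 := by
    have := mem (0, 1, 0)
    have h3 : CoFive.Class.P (0, 1, 0) = e 2 := by
      have h4 : (1 : ZMod 5).val = 1 := rfl
      simp [CoFive.Class.P, Ph, h4]
    rwa [h3] at this
  have m4 : e 4 ∈ S5 := mem_S5.2 ⟨0, 1, by
    have h4 : (1 : ZMod 5).val = 1 := rfl
    rw [h4, pow_one]
    have h5 : CoFive.Class.P 0 = 1 := Ph_zero _ _ _
    rw [h5, one_mul]⟩
  obtain ⟨a, ha, hpa⟩ := hl _ m1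
  obtain ⟨b, hb, hpb⟩ := hl _ m2
  obtain ⟨c, hc, hpc⟩ := hl _ m3
  obtain ⟨u, hu, hpu⟩ := hl _ m4
  -- relations
  have rel : ∀ y ∈ P, ∀ y' ∈ P, pi y = pi y' → y = y' := by
    intro y hy y' hy' h1
    have h2 := hi (y * y'⁻¹) (P.mul_mem hy (P.inv_mem hy')) (by rw [map_mul, map_inv, h1, mul_inv_cancel])
    exact mul_inv_eq_one.1 h2
  have rc : ∀ y ∈ P, ∀ y' ∈ P, pi y * pi y' = pi y' * pi y → y * y' = y' * y := by
    intro y hy y' hy' h1
    exact rel _ (P.mul_mem hy hy') _ (P.mul_mem hy' hy) (by rw [map_mul, map_mul, h1])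
  have mkc : ∀ g k : Co0, g * k = k * g → (QuotientGroup.mk g : Co1) * QuotientGroup.mk k = QuotientGroup.mk k * QuotientGroup.mk g := by
    intro g k h1
    rw [← QuotientGroup.mk_mul, h1, QuotientGroup.mk_mul]
  have ord : ∀ y ∈ P, ∀ g : Co0, orderOf g = 5 → pi y = QuotientGroup.mk g → orderOf y = 5 := by
    intro y hy g hg h1
    have h2 : y ^ 5 = 1 := by
      apply hi _ (P.pow_mem hy 5)
      rw [map_pow, h1, ← QuotientGroup.mk_pow, ← hg, pow_orderOf_eq_one]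
      rfl
    refine orderOf_eq_prime h2 ?_
    rintro rfl
    rw [map_one] at h1
    have h3 := orderOf_mk hg
    rw [← h1, orderOf_one] at h3
    norm_num at h3
  have hab : a * b = b * a := rc a ha b hb (by rw [hpa, hpb]; exact mkc _ _ hyp.ab.eq)
  have hac : a * c = c * a := rc a ha c hc (by rw [hpa, hpc]; exact mkc _ _ hyp.ac.eq)
  have hbc : b * c = c * b := rc b hb c hc (by rw [hpb, hpc]; exact mkc _ _ hyp.bc.eq)
  have hau : a * u = u * a := rc a ha u hu (by rw [hpa, hpu]; exact (mkc _ _ comm_u).symm)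
  have hbu : b = u * c * u⁻¹ * c⁻¹ := by
    refine rel b hb _ (P.mul_mem (P.mul_mem (P.mul_mem hu hc) (P.inv_mem hu)) (P.inv_mem hc)) ?_
    rw [map_mul, map_mul, map_mul, map_inv, map_inv, hpb, hpu, hpc]
    have h1 : e 4 * e 3 * (e 4)⁻¹ = e 2 * e 3 := by
      have h2 := dat.uc
      have h3 : Ph (e 1) (e 2) (e 3) (0, 1, 1) = e 2 * e 3 := by
        have h4 : (1 : ZMod 5).val = 1 := rfl
        simp [Ph, h4]
      rwa [h3] at h2
    have h2 : (QuotientGroup.mk (e 4 * e 3 * (e 4)⁻¹) : Co1) = QuotientGroup.mk (e 2 * e 3) := by rw [h1]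
    rw [QuotientGroup.mk_mul, QuotientGroup.mk_mul, QuotientGroup.mk_inv, QuotientGroup.mk_mul] at h2
    rw [h2, mul_inv_cancel_right]
  have ob : orderOf (e 2) = 5 := by
    obtain ⟨k, hk⟩ := isConj_iff.1 isConj_b
    have h1 := order_r8
    rw [← hk] at h1
    rw [← h1]
    exact (MulEquiv.orderOf_eq (MulAut.conj k) (e 2)).symm
  have hx : pi (b * (c * c)) = QuotientGroup.mk r0 := by
    rw [map_mul, map_mul, hpb, hpc]
    rfl
  have hxP : b * (c * c) ∈ P := P.mul_mem hb (P.mul_mem hc hc)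
  refine ⟨P, b * (c * c), a, b, c, u, hP, hxP, ha, hb, hc, hu, ?_, ?_, ?_, ?_, ?_, ?_, ?_, ?_, ?_, ?_, hab, hac, hau, hbu⟩
  · rw [hx, fr_r0]
  · rw [hpa]; exact fr_r4
  · rw [hpb, fr_of_isConj (isConj_mk isConj_b), fr_r8]
  · rw [hpc]; exact fr_r8
  · exact ord _ hxP _ order_r0 hx
  · exact ord _ ha _ order_r4 hpa
  · exact ord _ hb _ ob hpb
  · exact ord _ hc _ order_r8 hpc
  · exact (((show Commute a b from hab).mul_right ((show Commute a c from hac).mul_right hac))).eq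
  · calc c * (b * (c * c)) = (c * b) * c * c := by group
      _ = b * (c * c) * c := by rw [← hbc]; group

end lifts

end Cfsg.Agent.H609.T5.Five
end

-- part: H609/T5/MFiveC
section
/-!
# All elements of order 5 of the Monster have conjugates in `C(x) ∖ ker ρ`, `x` of type 5B

`Inp` : the inputs at the level of the chart; `al` : the statement.
-/

set_option autoImplicit false

namespace Cfsg.Agent.H609.T5.Five

open Subgroup Cfsg
open Cfsg.Agent.MonsterU Cfsg.Agent.MFive Cfsg.Agent.BpTab Cfsg.Agent.BpSpor.M5 Cfsg.Agent.H847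
open Cfsg.Agent.LThreeMB (fr XX Zx zD self toXX toCC be exists_XX_equiv)
open Cfsg.Agent.MonsterU.Ch
open Cfsg.Agent.MonsterU.Lam2 (L2)
open Cfsg.Agent.H749 (PEl)
open Cfsg.Spor (Co1)

universe u

instance instFive : Fact (Nat.Prime 5) := ⟨Nat.prime_five⟩

section

variable {G : Type u} [Group G] {Q : Subgroup G} {z : G} {eta : G → L2}
  {pi : Subgroup.centralizer ({z} : Set G) →* Co1}

/-- the inputs -/
structure Inp (Q : Subgroup G) (z : G) (eta : G → L2) (pi : Subgroup.centralizer ({z} : Set G) →* Co1) : Prop where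
  h : Chart Q z eta pi
  tr : TrNe 5 z pi
  I : CoFive
  J : ∀ s : Co1, orderOf s = 5 → fr s = 1 → Spor.IsoJ2 (XX s)
  h8 : HNEight z pi
  pr : HasPair 5 z pi
  k : ∃ (x₀ : Subgroup.centralizer ({z} : Set G)) (k : G), orderOf x₀ = 5 ∧ fr (pi x₀) = 1 ∧
      k * (x₀ : G) = x₀ * k ∧ k * k = z
  card : ¬ 5 ^ 10 ∣ Nat.card G
  ev : ∀ r : G, orderOf r = 5 → (∃ g : G, (g * z * g⁻¹) * r = r * (g * z * g⁻¹)) ∨
    ¬ 4 ∣ Nat.card ↥(centralizer ({r} : Set G))

/-- elements of `C(z)` with the same fixed rank are conjugate -/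
theorem conj_same (h : Chart Q z eta pi) {x y : Subgroup.centralizer ({z} : Set G)} (hx : orderOf x = 5)
    (hy : orderOf y = 5) (hfr : fr (pi x) = fr (pi y)) : ∃ k : G, k * (y : G) * k⁻¹ = x := by
  have ho : Odd 5 := by decide
  obtain ⟨c, hc⟩ := CoFive.Ranks.classOf _ (pi y) (pi x) (orderOf_pi h Nat.prime_five ho hy)
    (orderOf_pi h Nat.prime_five ho hx) rfl hfr
  obtain ⟨k, hk⟩ := exists_conj_of_conj h Nat.prime_five ho (by rw [← hy, pow_orderOf_eq_one])
    (by rw [← hx, pow_orderOf_eq_one]) hc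
  exact ⟨k, congrArg Subtype.val hk⟩

/-- elements of fixed rank 4 are conjugate to powers of elements of fixed rank 0 -/
theorem conj_four [Finite G] (H : Inp Q z eta pi) {x y : Subgroup.centralizer ({z} : Set G)} (hx : orderOf x = 5)
    (hfr : fr (pi x) = 1) (hy : orderOf y = 5) (hfy : fr (pi y) = 2 ^ 4) :
    ∃ (k : G) (i : ℕ), k * (y : G) * k⁻¹ = (x : G) ^ i := by
  have ho : Odd 5 := by decide
  obtain ⟨x₀, u, g, hx₀, hfr₀, huz, hux, hne, hg⟩ := H.pr
  obtain ⟨k, i, hk⟩ := conj_pair H.h Nat.prime_five ho H.tr (R := fun n => n = 2 ^ 8) H.I.ranks H.I.four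
    (fun x hx h2 => ⟨(simple_of_isoHN (H.h8 x hx h2)).1, (simple_of_isoHN (H.h8 x hx h2)).2.1⟩) hx₀ hfr₀ huz hux
    hne hg hy hfy
  obtain ⟨l, hl⟩ := conj_same H.h hx hx₀ (hfr.trans hfr₀.symm)
  refine ⟨l * k, i, ?_⟩
  calc l * k * y * (l * k)⁻¹ = l * (k * y * k⁻¹) * l⁻¹ := by group
    _ = (l * x₀ * l⁻¹) ^ i := by rw [hk, conj_pow]
    _ = _ := by rw [hl]

/-- **The situation at `x`.** -/
theorem exists_local [Finite G] (H : Inp Q z eta pi) {x : Subgroup.centralizer ({z} : Set G)} (hx : orderOf x = 5)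
    (hfr : fr (pi x) = 1) :
    IsSimpleGroup (XX (pi x)) ∧ ¬ Group.IsSolvable (XX (pi x)) ∧ ¬ 5 ^ 3 ∣ Nat.card (XX (pi x)) ∧
    (∃ (N : Subgroup ↥(centralizer ({(x : G)} : Set G))) (ρ : ↥(centralizer ({(x : G)} : Set G)) →* XX (pi x))
      (S : Subgroup ↥(centralizer ({(x : G)} : Set G))), RS (zD x) (self (x : G)) N (toXX pi x) ρ S) ∧
    ∀ r : G, orderOf r = 5 → ∃ a : G, a * r * a⁻¹ ∈ centralizer ({(x : G)} : Set G) := by
  have hp : Nat.Prime 5 := Nat.prime_five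
  have ho : Odd 5 := by decide
  obtain ⟨x₁, k₁, hx₁, hfr₁, hkx₁, hkk₁⟩ := H.k
  obtain ⟨k, hkx, hkk⟩ := exists_sq H.h hp ho (CoFive.Ranks.wclassOf _) hx₁ hfr₁ hkx₁ hkk₁ hx hfr
  have hJx := H.J _ (orderOf_pi H.h hp ho hx) hfr
  obtain ⟨f1, f2, f3, f4⟩ := j2_facts hJx
  have hD4 := dvd_zero H.h H.tr H.I H.h8 H.pr (CoFive.Ranks.wclassOf _) CoFive.Sylow.exists_four hx hfr
  obtain ⟨N, hN⟩ := exists_rad H.h (by norm_num) hx hfr (fun d hd hc => isolated H.h H.tr hx hfr d hd hc) f1 f2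
  have hkz : k * z = z * k := by rw [← hkk, mul_assoc]
  obtain ⟨S, T, hSn, hST, hTp, hT9, hfac⟩ := H546.RadSeven.exists_nine (hA := f1) f3 hN
    (k := ⟨⟨k, mem_centralizer_singleton_iff.2 hkx⟩, mem_centralizer_singleton_iff.2 (Subtype.ext hkz)⟩)
    (Subtype.ext hkk) hD4 f4 (by rw [JTwoOdd.card_of hJx]; norm_num) (by rw [JTwoOdd.card_of hJx]; norm_num)
  have hxo : orderOf (x : G) = 5 := by rw [Subgroup.orderOf_coe, hx]
  refine ⟨f1, f3, f4, ?_, ?_⟩
  · obtain ⟨ρ, S, hS⟩ := exists_RS f3 hJx f4 hN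
      (k := ⟨⟨k, mem_centralizer_singleton_iff.2 hkx⟩, mem_centralizer_singleton_iff.2 (Subtype.ext hkz)⟩)
      (Subtype.ext hkk) hD4 (fun h10 => H.card (h10.trans (centralizer ({(x : G)} : Set G)).card_subgroup_dvd_card))
    exact ⟨N, ρ, S, hS⟩
  · intro r hro
    set! ι := (centralizer ({(x : G)} : Set G)).subtype with hι
    have hTp' : IsPGroup 5 ↥(T.map ι) := hTp.map ι
    have hT9' : 5 ^ 9 ∣ Nat.card ↥(T.map ι) := by
      rw [card_map_of_injective (Subgroup.subtype_injective _)]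
      exact hT9
    have hidx : ¬ 5 ∣ (T.map ι).index := by
      intro h5
      apply H.card
      rw [← (T.map ι).card_mul_index, pow_succ]
      exact mul_dvd_mul hT9' h5
    obtain ⟨a, ha⟩ := J2Type.SylowFive.exists_conj_mem_sylow (hTp'.toSylow hidx) (y := r) (n := 1)
      (by rw [hro, pow_one])
    have ha' : a * r * a⁻¹ ∈ T.map ι := by
      rw [← hTp'.toSylow_coe hidx]
      exact ha
    exact ⟨a, map_subtype_le _ ha'⟩

variable {x : Subgroup.centralizer ({z} : Set G)} {N S : Subgroup ↥(centralizer ({(x : G)} : Set G))}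
  {ρ : ↥(centralizer ({(x : G)} : Set G)) →* XX (pi x)}

/-- `ρ` on `C(z) ∩ C(x)` -/
theorem rho_eq_one (hR : RS (zD x) (self (x : G)) N (toXX pi x) ρ S) {c : Subgroup.centralizer ({z} : Set G)}
    (hcx : (c : G) ∈ centralizer ({(x : G)} : Set G)) (h1 : ρ ⟨c, hcx⟩ = 1) : pi c ∈ zpowers (pi x) := by
  have hcz : (⟨c, hcx⟩ : ↥(centralizer ({(x : G)} : Set G))) ∈
      centralizer ({zD x} : Set ↥(centralizer ({(x : G)} : Set G))) :=
    mem_centralizer_singleton_iff.2 (Subtype.ext (mem_centralizer_singleton_iff.1 c.2))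
  have h2 := hR.ρc ⟨⟨c, hcx⟩, hcz⟩
  have h3 : toXX pi x ⟨⟨c, hcx⟩, hcz⟩ = 1 := h2.symm.trans h1
  have h4 : be pi x (toCC x ⟨⟨c, hcx⟩, hcz⟩) ∈ Zx (pi x) := (QuotientGroup.eq_one_iff _).1 h3
  obtain ⟨i, hi⟩ := mem_zpowers_iff.1 h4
  exact ⟨i, congrArg Subtype.val hi⟩

theorem fr_of_mem {s t : Co1} (hs : fr s = 1) (hs5 : s ^ 5 = 1) (ht : t ∈ zpowers s) : t = 1 ∨ fr t = 1 := by
  obtain ⟨n, rfl⟩ := (mem_powers_iff_mem_zpowers (x := s) (y := t)).2 ht
  by_cases h5 : 5 ∣ n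
  · left
    obtain ⟨m, rfl⟩ := h5
    show s ^ (5 * m) = 1
    rw [pow_mul, hs5, one_pow]
  · right
    show fr (s ^ n) = 1
    have h6 : orderOf s ∣ 5 := orderOf_dvd_of_pow_eq_one hs5
    have h7 : n.Coprime (orderOf s) :=
      Nat.Coprime.coprime_dvd_right h6 ((Nat.Prime.coprime_iff_not_dvd Nat.prime_five).2 h5).symm
    obtain ⟨m, hm⟩ := exists_pow_eq_self_of_coprime h7
    apply le_antisymm _ (fr_pos _)
    refine (fr_le_pow _ m).trans ?_
    rw [hm, hs]

/-- elements of `C(z) ∩ C(x)` of nonzero fixed rank are not in the kernel -/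
theorem rho_ne (h : Chart Q z eta pi) (hx : orderOf x = 5) (hfr : fr (pi x) = 1)
    (hR : RS (zD x) (self (x : G)) N (toXX pi x) ρ S) {c : Subgroup.centralizer ({z} : Set G)}
    (hc : orderOf c = 5) (hfc : fr (pi c) ≠ 1)
    (hcx : (c : G) ∈ centralizer ({(x : G)} : Set G)) : ρ ⟨c, hcx⟩ ≠ 1 := by
  have ho : Odd 5 := by decide
  intro h1
  rcases fr_of_mem hfr (by rw [← map_pow, ← hx, pow_orderOf_eq_one, map_one]) (rho_eq_one hR hcx h1) with h2 | h2
  · have h3 := orderOf_pi h Nat.prime_five ho hc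
    rw [h2, orderOf_one] at h3
    norm_num at h3
  · exact hfc h2

/-- conjugates of elements commuting with `a` -/
theorem mem_of_comm {H : Type*} [Group H] {x a k y : H} {i : ℕ} (hx : orderOf x = 5) (ha : orderOf a = 5)
    (hk : k * a * k⁻¹ = x ^ i) (hy : a * y = y * a) : k * y * k⁻¹ ∈ centralizer ({x} : Set H) := by
  have h1 : orderOf (x ^ i) = 5 := by
    rw [← hk, ← ha]
    exact MulEquiv.orderOf_eq (MulAut.conj k) a
  rw [← centralizer_pow Nat.prime_five hx h1, mem_centralizer_singleton_iff, ← hk]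
  calc k * y * k⁻¹ * (k * a * k⁻¹) = k * (y * a) * k⁻¹ := by group
    _ = k * a * k⁻¹ * (k * y * k⁻¹) := by rw [← hy]; group

/-- **`S` is not abelian.** -/
theorem nonab [Finite G] (H : Inp Q z eta pi) {P : Subgroup ↥(centralizer ({z} : Set G))}
    {a b c u : Subgroup.centralizer ({z} : Set G)} (L : Lifts pi P x a b c u)
    (hR : RS (zD x) (self (x : G)) N (toXX pi x) ρ S) : ∃ s ∈ S, ∃ t ∈ S, s * t ≠ t * s := by
  by_contra hcon
  push Not at hcon
  have hfA : Finite (XX (pi x)) := Finite.of_surjective ρ hR.surj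
  have hcA : ¬ 5 ^ 3 ∣ Nat.card (XX (pi x)) := by rw [JTwoOdd.card_of hR.iso]; norm_num
  have hxo : orderOf (x : G) = 5 := by rw [Subgroup.orderOf_coe, L.ox]
  have hao : orderOf (a : G) = 5 := by rw [Subgroup.orderOf_coe, L.oa]
  have hbo : orderOf (b : G) = 5 := by rw [Subgroup.orderOf_coe, L.ob]
  obtain ⟨k, i, hk⟩ := conj_four H L.ox L.fx L.oa L.fa
  have hb' := mem_of_comm hxo hao hk (y := (b : G)) (congrArg Subtype.val L.ab)
  have hc' := mem_of_comm hxo hao hk (y := (c : G)) (congrArg Subtype.val L.ac)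
  have hu' := mem_of_comm hxo hao hk (y := (u : G)) (congrArg Subtype.val L.au)
  -- the 5-subgroup `T`
  let φ : ↥(centralizer ({(x : G)} : Set G)) →* G :=
    (MulAut.conj k⁻¹).toMonoidHom.comp (centralizer ({(x : G)} : Set G)).subtype
  have hφ : ∀ d, φ d = k⁻¹ * d * k := fun d => by
    show k⁻¹ * (d : G) * (k⁻¹)⁻¹ = _
    rw [inv_inv]
  have hφi : Function.Injective φ := by
    intro d e hde
    rw [hφ, hφ] at hde
    exact Subtype.ext (mul_left_cancel (mul_right_cancel hde))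
  have hT : IsPGroup 5 ↥((P.map (centralizer ({z} : Set G)).subtype).comap φ) :=
    (L.hP.map _).comap_of_injective φ hφi
  have hTm : ∀ y ∈ P, ∀ hy : k * (y : G) * k⁻¹ ∈ centralizer ({(x : G)} : Set G),
      (⟨k * (y : G) * k⁻¹, hy⟩ : ↥(centralizer ({(x : G)} : Set G))) ∈
        (P.map (centralizer ({z} : Set G)).subtype).comap φ := by
    intro y hyP hy
    refine ⟨y, hyP, ?_⟩
    rw [hφ]
    show (y : G) = k⁻¹ * (k * y * k⁻¹) * k
    group
  obtain ⟨R, hTR⟩ := (hT.map ρ).exists_le_sylow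
  have hRc := H533.T5.sylow_comm_of_card R hcA
  have hcomm : ρ ⟨_, hu'⟩ * ρ ⟨_, hc'⟩ = ρ ⟨_, hc'⟩ * ρ ⟨_, hu'⟩ := by
    have h1 := hTR (mem_map_of_mem ρ (hTm u L.uP hu'))
    have h2 := hTR (mem_map_of_mem ρ (hTm c L.cP hc'))
    exact congrArg Subtype.val ((hRc.is_comm.comm (⟨_, h1⟩ : ↥(R : Subgroup (XX (pi x)))) ⟨_, h2⟩ :))
  have hρb : ρ ⟨_, hb'⟩ = 1 := by
    have h1 : (⟨_, hb'⟩ : ↥(centralizer ({(x : G)} : Set G))) = ⟨_, hu'⟩ * ⟨_, hc'⟩ * (⟨_, hu'⟩)⁻¹ * (⟨_, hc'⟩)⁻¹ := by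
      apply Subtype.ext
      show k * (b : G) * k⁻¹ = k * u * k⁻¹ * (k * c * k⁻¹) * (k * u * k⁻¹)⁻¹ * (k * c * k⁻¹)⁻¹
      have h2 : (b : G) = u * c * (u : G)⁻¹ * (c : G)⁻¹ := congrArg Subtype.val L.bcu
      rw [h2]
      group
    rw [h1, map_mul, map_mul, map_mul, map_inv, map_inv, hcomm]
    group
  set! b₁ : G := k * (b : G) * k⁻¹ with hb₁; rewrite [← hb₁] at hb'
  have hbo' : orderOf b₁ = 5 := by
    rw [← hbo]
    exact MulEquiv.orderOf_eq (MulAut.conj k) (b : G)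
  have hbS : (⟨b₁, hb'⟩ : ↥(centralizer ({(x : G)} : Set G))) ∈ S :=
    hR.mem _ (by rw [Subgroup.orderOf_mk, hbo']) hρb
  -- `XX b₁ ≅ HN`
  obtain ⟨-, ⟨e⟩⟩ := exists_XX_equiv (x' := (b : G)) (x := b₁) (g := k) rfl
  have hHN : Spor.IsoHN (XX b₁) := isoHN_congr e (H.h8 b L.ob L.fb)
  have hcHN : Nat.card (XX b₁) = 273030912000000 := by
    obtain ⟨e'⟩ := id hHN
    exact (Nat.card_congr e'.toEquiv).trans Cfsg.Agent.S1701.result.2
  -- `S → XX b₁`
  have hSc : ∀ s : ↥S, (((s : ↥S) : ↥(centralizer ({(x : G)} : Set G))) : G) ∈ centralizer ({b₁} : Set G) := by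
    intro s
    rw [mem_centralizer_singleton_iff]
    exact congrArg Subtype.val (hcon s s.2 ⟨b₁, hb'⟩ hbS)
  let ι : ↥S →* ↥(centralizer ({b₁} : Set G)) :=
    ((centralizer ({(x : G)} : Set G)).subtype.comp S.subtype).codRestrict _ hSc
  have hι : ∀ s : ↥S, ((ι s : ↥(centralizer ({b₁} : Set G))) : G) = ((s : ↥(centralizer ({(x : G)} : Set G))) : G) :=
    fun s => rfl
  let ψ : ↥S →* XX b₁ := (QuotientGroup.mk' (Zx b₁)).comp ι
  have h1 := RadFive.card_ker_mul ψ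
  have h2 : Nat.card ↥ψ.ker ∣ 5 := by
    have h3 : ∀ g : ↥ψ.ker, (((g : ↥S) : ↥(centralizer ({(x : G)} : Set G))) : G) ∈ zpowers b₁ := by
      intro g
      have h4 : ι g ∈ Zx b₁ := (QuotientGroup.eq_one_iff _).1 g.2
      obtain ⟨i, hi⟩ := mem_zpowers_iff.1 h4
      exact ⟨i, congrArg Subtype.val hi⟩
    let χ : ↥ψ.ker →* ↥(zpowers b₁) :=
      (((centralizer ({(x : G)} : Set G)).subtype.comp S.subtype).comp ψ.ker.subtype).codRestrict _ h3
    have h4 : Function.Injective χ := by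
      intro g g' hg
      exact Subtype.ext (Subtype.ext (Subtype.ext (congrArg (fun t : ↥(zpowers b₁) => (t : G)) hg)))
    have h5 := card_dvd_of_injective χ h4
    rwa [Nat.card_zpowers, hbo'] at h5
  have h3 : 5 ^ 6 ∣ Nat.card ↥ψ.range := by
    rw [hR.cS] at h1
    have h4 : 5 ^ 7 ∣ 5 * Nat.card ↥ψ.range := by
      rw [← h1]
      exact mul_dvd_mul_right h2 _
    rw [pow_succ, mul_comm] at h4
    exact Nat.dvd_of_mul_dvd_mul_left (by norm_num) h4
  have hrp : IsPGroup 5 ↥ψ.range := by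
    have h4 : IsPGroup 5 ↥((⊤ : Subgroup ↥S).map ψ) := by
      refine IsPGroup.map ?_ ψ
      exact hR.Sp.of_equiv topEquiv.symm
    rwa [← MonoidHom.range_eq_map] at h4
  have hidx : ¬ 5 ∣ ψ.range.index := by
    intro h5
    have h6 : 5 ^ 7 ∣ Nat.card (XX b₁) := by
      rw [← ψ.range.card_mul_index, pow_succ]
      exact mul_dvd_mul h3 h5
    rw [hcHN] at h6
    norm_num at h6
  refine H800.Sp.notAb_of_not_pcent (Cfsg.Agent.H573.Spor.hn_5 hHN) (hrp.toSylow hidx) ?_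
  rw [hrp.toSylow_coe hidx]
  refine ⟨⟨?_⟩⟩
  rintro ⟨_, s, rfl⟩ ⟨_, t, rfl⟩
  apply Subtype.ext
  show ψ s * ψ t = ψ t * ψ s
  rw [← map_mul, ← map_mul]
  congr 1
  exact Subtype.ext (hcon s s.2 t t.2)

end

end Cfsg.Agent.H609.T5.Five
end
end

-- part: H609/T5/MFiveD
section
set_option linter.all false
open scoped Cfsg.Agent.FastGrp

/-!
# All elements of order 5 have conjugates in `C(x) ∖ ker ρ`

* `al_even` : the elements commuting with a conjugate of `z`;
* `trick` : `r ∈ S` commuting with `x₁ ∈ C(x) ∖ ker ρ` conjugate to a power of `x`;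
* `al_all`, `wpair`.
-/

set_option autoImplicit false

namespace Cfsg.Agent.H609.T5.Five

open Subgroup Cfsg
open Cfsg.Agent.H533.T5 (WPair)
open Cfsg.Agent.MonsterU Cfsg.Agent.MFive Cfsg.Agent.BpTab Cfsg.Agent.BpSpor.M5 Cfsg.Agent.H847
open Cfsg.Agent.LThreeMB (fr XX Zx zD self toXX toCC be exists_XX_equiv)
open Cfsg.Agent.MonsterU.Ch
open Cfsg.Agent.MonsterU.Lam2 (L2)
open Cfsg.Agent.H749 (PEl)
open Cfsg.Spor (Co1)

universe u

section trick

variable {G : Type*} [Group G] {A : Type*} [Group A] {x : G} {ρ : ↥(centralizer ({x} : Set G)) →* A}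

/-- **The trick.** -/
theorem trick {r x₁ k : G} {j : ℕ} (hxo : orderOf x = 5) (hx₁o : orderOf x₁ = 5) (hk : k * x₁ * k⁻¹ = x ^ j)
    (hr : orderOf r = 5) (hrx₁ : r * x₁ = x₁ * r) (hrD : r ∈ centralizer ({x} : Set G))
    (hx₁D : x₁ ∈ centralizer ({x} : Set G)) (hρr : ρ ⟨r, hrD⟩ = 1) (hρx₁ : ρ ⟨x₁, hx₁D⟩ ≠ 1)
    (hS : ∀ (r₂ : ↥(centralizer ({x} : Set G))), orderOf r₂ = 5 → ρ r₂ = 1 → (r₂ : G) ∉ zpowers x →
      ∀ j : ℕ, ∃ g : G, g * (r₂ : G) * g⁻¹ = r₂ * x ^ j) : Al x ρ r := by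
  have hr₂ := mem_of_comm hxo hx₁o hk (y := r) hrx₁.symm
  by_cases h1 : ρ ⟨k * r * k⁻¹, hr₂⟩ = 1
  · have hr₂o : orderOf (k * r * k⁻¹) = 5 := by
      rw [← hr]
      exact MulEquiv.orderOf_eq (MulAut.conj k) r
    have hnot : k * r * k⁻¹ ∉ zpowers x := by
      intro h2
      have h3 : orderOf (x ^ j) = 5 := by
        rw [← hk, ← hx₁o]
        exact MulEquiv.orderOf_eq (MulAut.conj k) x₁
      have h4 : zpowers (x ^ j) = zpowers x := by
        have hfin : Finite ↥(zpowers x) := Nat.finite_of_card_ne_zero (by rw [Nat.card_zpowers, hxo]; norm_num)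
        refine Subgroup.eq_of_le_of_card_ge (zpowers_le.2 ((zpowers x).pow_mem (mem_zpowers x) j)) ?_
        rw [Nat.card_zpowers, Nat.card_zpowers, h3, hxo]
      rw [← h4] at h2
      obtain ⟨m, hm⟩ := mem_zpowers_iff.1 h2
      have h5 : r = x₁ ^ m := by
        rw [← hk, conj_zpow] at hm
        exact mul_left_cancel (mul_right_cancel hm.symm)
      have h6 : ρ ⟨x₁, hx₁D⟩ ^ m = 1 := by
        rw [← map_zpow, ← hρr]
        congr 1
        exact Subtype.ext h5.symm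
      have h7 : orderOf (ρ ⟨x₁, hx₁D⟩) = 5 := by
        refine orderOf_eq_prime ?_ hρx₁
        rw [← map_pow]
        have h8 : (⟨x₁, hx₁D⟩ : ↥(centralizer ({x} : Set G))) ^ 5 = 1 := Subtype.ext (by
          show x₁ ^ 5 = 1
          rw [← hx₁o, pow_orderOf_eq_one])
        rw [h8, map_one]
      have h8 : (5 : ℤ) ∣ m := by
        have h9 := orderOf_dvd_iff_zpow_eq_one.2 h6
        rwa [h7] at h9
      obtain ⟨l, rfl⟩ := h8
      have h9 : r = 1 := by
        rw [h5, zpow_mul]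
        have h10 : x₁ ^ (5 : ℤ) = 1 := by
          have h11 : x₁ ^ (5 : ℕ) = 1 := by rw [← hx₁o, pow_orderOf_eq_one]
          exact_mod_cast h11
        rw [h10, one_zpow]
      rw [h9, orderOf_one] at hr
      norm_num at hr
    obtain ⟨g, hg⟩ := hS ⟨k * r * k⁻¹, hr₂⟩ (by rw [Subgroup.orderOf_mk, hr₂o]) h1 hnot j
    have hg' : g * (k * r * k⁻¹) * g⁻¹ = k * (r * x₁) * k⁻¹ := by
      have h2 : g * (k * r * k⁻¹) * g⁻¹ = (k * r * k⁻¹) * x ^ j := hg
      rw [h2, ← hk]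
      group
    have h2 : Al x ρ (r * x₁) := by
      refine al_of_mem (mul_mem hrD hx₁D) ?_
      have h3 : (⟨r * x₁, mul_mem hrD hx₁D⟩ : ↥(centralizer ({x} : Set G))) = ⟨r, hrD⟩ * ⟨x₁, hx₁D⟩ := rfl
      rw [h3, map_mul, hρr, one_mul]
      exact hρx₁
    have h3 : Al x ρ (g * (k * r * k⁻¹) * g⁻¹) := by
      rw [hg']
      exact h2.conj'
    exact h3.conj.conj
  · exact (al_of_mem hr₂ h1).conj

end trick

section

variable {G : Type u} [Group G] {Q : Subgroup G} {z : G} {eta : G → L2}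
  {pi : Subgroup.centralizer ({z} : Set G) →* Co1}

variable {x : Subgroup.centralizer ({z} : Set G)} {N S : Subgroup ↥(centralizer ({(x : G)} : Set G))}
  {ρ : ↥(centralizer ({(x : G)} : Set G)) →* XX (pi x)}

/-- `x` itself -/
theorem al_self [Finite G] (H : Inp Q z eta pi) {P : Subgroup ↥(centralizer ({z} : Set G))}
    {a b c u : Subgroup.centralizer ({z} : Set G)} (L : Lifts pi P x a b c u)
    (hR : RS (zD x) (self (x : G)) N (toXX pi x) ρ S) : Al (x : G) ρ (x : G) := by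
  obtain ⟨k, i, hk⟩ := conj_four H L.ox L.fx L.oa L.fa
  have haD : (a : G) ∈ centralizer ({(x : G)} : Set G) := mem_centralizer_singleton_iff.2 (congrArg Subtype.val L.xa)
  have h1 := rho_ne H.h L.ox L.fx hR L.oa (by rw [L.fa]; norm_num) haD
  refine Al.of_pow_centralizer Nat.prime_five (by rw [Subgroup.orderOf_coe, L.ox]) (n := i) ?_
  rw [← hk]
  exact (al_of_mem haD h1).conj'

/-- **The elements of `C(z)`.** -/
theorem al_even [Finite G] (H : Inp Q z eta pi) {P : Subgroup ↥(centralizer ({z} : Set G))}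
    {a b c u : Subgroup.centralizer ({z} : Set G)} (L : Lifts pi P x a b c u)
    (hR : RS (zD x) (self (x : G)) N (toXX pi x) ρ S) {r : Subgroup.centralizer ({z} : Set G)} (hr : orderOf r = 5) :
    Al (x : G) ρ (r : G) := by
  have ho : Odd 5 := by decide
  have hx := al_self H L hR
  rcases H.I.ranks (pi r) (orderOf_pi H.h Nat.prime_five ho hr) with h1 | h1 | h1
  · obtain ⟨k, hk⟩ := conj_same H.h L.ox hr (L.fx.trans h1.symm)
    exact hx.of_conj_eq hk
  · obtain ⟨k, i, hk⟩ := conj_four H L.ox L.fx hr h1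
    refine Al.of_conj_eq ?_ hk
    have hio : orderOf ((x : G) ^ i) = 5 := by
      rw [← hk, ← hr, ← Subgroup.orderOf_coe]
      exact MulEquiv.orderOf_eq (MulAut.conj k) (r : G)
    have hi : i.Coprime 5 := by
      rw [Nat.coprime_comm, Nat.prime_five.coprime_iff_not_dvd]
      rintro ⟨m, rfl⟩
      have hxo : orderOf (x : G) = 5 := by rw [Subgroup.orderOf_coe, L.ox]
      rw [pow_mul, ← hxo, pow_orderOf_eq_one, one_pow, orderOf_one, hxo] at hio
      norm_num at hio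
    obtain ⟨m, hm⟩ := exists_pow_eq_self_of_coprime (x := (x : G)) (n := i) (by rw [Subgroup.orderOf_coe, L.ox]; exact hi)
    refine Al.of_pow_centralizer Nat.prime_five hio (n := m) ?_
    rw [hm]
    exact hx
  · obtain ⟨k, hk⟩ := conj_same H.h L.oc hr (L.fc.trans h1.symm)
    have hcD : (c : G) ∈ centralizer ({(x : G)} : Set G) := mem_centralizer_singleton_iff.2 (congrArg Subtype.val L.xc)
    have h2 := rho_ne H.h L.ox L.fx hR L.oc (by rw [L.fc]; norm_num) hcD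
    exact (al_of_mem hcD h2).of_conj_eq hk

/-- **All elements of order 5.** -/
theorem al_all [Finite G] (H : Inp Q z eta pi) {P : Subgroup ↥(centralizer ({z} : Set G))}
    {a b c u : Subgroup.centralizer ({z} : Set G)} (L : Lifts pi P x a b c u)
    (hR : RS (zD x) (self (x : G)) N (toXX pi x) ρ S)
    (hcon : ∀ r : G, orderOf r = 5 → ∃ a : G, a * r * a⁻¹ ∈ centralizer ({(x : G)} : Set G))
    {r : G} (hr : orderOf r = 5) : Al (x : G) ρ r := by
  have ho : Odd 5 := by decide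
  have hfA : Finite (XX (pi x)) := Finite.of_surjective ρ hR.surj
  have hna := nonab H L hR
  have hxo : orderOf (x : G) = 5 := by rw [Subgroup.orderOf_coe, L.ox]
  rcases H.ev r hr with ⟨g, hg⟩ | h4
  · -- a conjugate in `C(z)`
    have h1 : g⁻¹ * r * g ∈ centralizer ({z} : Set G) := by
      rw [mem_centralizer_singleton_iff]
      calc (g⁻¹ * r * g) * z = g⁻¹ * (r * (g * z * g⁻¹)) * g := by group
        _ = g⁻¹ * ((g * z * g⁻¹) * r) * g := by rw [hg]
        _ = z * (g⁻¹ * r * g) := by group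
    have h2 : orderOf (⟨g⁻¹ * r * g, h1⟩ : Subgroup.centralizer ({z} : Set G)) = 5 := by
      rw [Subgroup.orderOf_mk, orderOf_conj'', hr]
    exact (al_even H L hR h2).of_conj_eq (k := g⁻¹) (by rw [inv_inv])
  -- a conjugate in `C(x)`
  obtain ⟨d, hd⟩ := hcon r hr
  have hro : orderOf (d * r * d⁻¹) = 5 := by
    rw [← hr]
    exact MulEquiv.orderOf_eq (MulAut.conj d) r
  refine Al.conj (k := d) ?_
  have h4' : ¬ 4 ∣ Nat.card ↥(centralizer ({d * r * d⁻¹} : Set G)) := by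
    obtain ⟨⟨e⟩, -⟩ := exists_XX_equiv (x' := r) (x := d * r * d⁻¹) (g := d) rfl
    rwa [← Nat.card_congr e.toEquiv]
  generalize d * r * d⁻¹ = r' at hd hro h4'
  by_cases hρ : ρ ⟨r', hd⟩ = 1
  swap
  · exact al_of_mem hd hρ
  have hrD : orderOf (⟨r', hd⟩ : ↥(centralizer ({(x : G)} : Set G))) = 5 := by rw [Subgroup.orderOf_mk, hro]
  have hrS := hR.mem _ hrD hρ
  -- conversion between `⟨x⟩` in `G` and in `C(x)`
  have hzp : ∀ r₂ : ↥(centralizer ({(x : G)} : Set G)), r₂ ∈ zpowers (self (x : G)) → (r₂ : G) ∈ zpowers (x : G) := by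
    rintro _ ⟨i, rfl⟩
    exact ⟨i, rfl⟩
  by_cases hrx : (⟨r', hd⟩ : ↥(centralizer ({(x : G)} : Set G))) ∈ zpowers (self (x : G))
  · obtain ⟨i, hi⟩ := mem_zpowers_iff.1 (hzp _ hrx)
    have hi : (x : G) ^ i = r' := hi
    have h1 : ((x ^ i : Subgroup.centralizer ({z} : Set G)) : G) = r' := by rw [SubgroupClass.coe_zpow, hi]
    have h2 : orderOf (x ^ i) = 5 := by rw [← Subgroup.orderOf_coe, h1, hro]
    have h3 := al_even H L hR h2
    rwa [h1] at h3
  have h4D : ¬ 4 ∣ Nat.card ↥(centralizer ({(⟨r', hd⟩ : ↥(centralizer ({(x : G)} : Set G)))} :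
      Set ↥(centralizer ({(x : G)} : Set G)))) := by
    intro h5
    apply h4'
    refine h5.trans ?_
    let φ : ↥(centralizer ({(⟨r', hd⟩ : ↥(centralizer ({(x : G)} : Set G)))} :
      Set ↥(centralizer ({(x : G)} : Set G)))) →* ↥(centralizer ({r'} : Set G)) :=
      ((centralizer ({(x : G)} : Set G)).subtype.comp (Subgroup.subtype _)).codRestrict _ (fun g =>
        mem_centralizer_singleton_iff.2 (congrArg Subtype.val (mem_centralizer_singleton_iff.1 g.2)))
    refine card_dvd_of_injective φ ?_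
    intro g g' hg
    exact Subtype.ext (Subtype.ext (congrArg (fun t : ↥(centralizer ({r'} : Set G)) => (t : G)) hg))
  obtain ⟨w, hw, hwr, hρw, hρw5⟩ := hR.exists_five hna hrD hrS hrx h4D
  -- `w` in `C(z)`
  have hwz : ((w : ↥(centralizer ({(x : G)} : Set G))) : G) ∈ centralizer ({z} : Set G) :=
    mem_centralizer_singleton_iff.2 (congrArg Subtype.val (mem_centralizer_singleton_iff.1 w.2))
  set w₀ : Subgroup.centralizer ({z} : Set G) := ⟨((w : ↥(centralizer ({(x : G)} : Set G))) : G), hwz⟩ with hw₀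
  have hw₀x : w₀ * x = x * w₀ := Subtype.ext (mem_centralizer_singleton_iff.1 (w : ↥(centralizer ({(x : G)} : Set G))).2)
  have hst : pi x * pi w₀ = pi w₀ * pi x := by rw [← map_mul, ← hw₀x, map_mul]
  have hs5 : pi x ^ 5 = 1 := by rw [← map_pow, ← L.ox, pow_orderOf_eq_one, map_one]
  have ht5 : pi w₀ ^ 5 ∈ zpowers (pi x) := by
    have h5 : ((w₀ ^ 5 : Subgroup.centralizer ({z} : Set G)) : G) ∈ centralizer ({(x : G)} : Set G) := by
      rw [SubmonoidClass.coe_pow]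
      exact pow_mem (w : ↥(centralizer ({(x : G)} : Set G))).2 5
    have h6 := rho_eq_one hR (c := w₀ ^ 5) h5 (by
      have h7 : (⟨((w₀ ^ 5 : Subgroup.centralizer ({z} : Set G)) : G), h5⟩ : ↥(centralizer ({(x : G)} : Set G))) =
          (w : ↥(centralizer ({(x : G)} : Set G))) ^ 5 := rfl
      rw [h7, map_pow, hρw5])
    rwa [map_pow] at h6
  have ht1 : pi w₀ ^ 5 = 1 := by
    rcases fr_of_mem L.fx hs5 ht5 with h5 | h5
    · exact h5
    · exfalso
      refine no_twentyfive (t := pi w₀) ?_ h5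
      obtain ⟨i, hi⟩ := mem_zpowers_iff.1 ht5
      rw [show 25 = 5 * 5 from rfl, pow_mul, ← hi, ← zpow_natCast, ← zpow_mul, mul_comm, zpow_mul, zpow_natCast, hs5,
        one_zpow]
  have hw5 : w₀ ^ 5 = 1 := by
    have h5 : ((w₀ ^ 5 : Subgroup.centralizer ({z} : Set G)) : G) ∈ Q := (H.h.pi_eq_one _).1 (by rw [map_pow, ht1])
    obtain ⟨n, hn⟩ := hw
    have hn' : (w₀ : G) ^ 5 ^ n = 1 := by
      have h6 := congrArg (fun t : ↥(centralizer ({zD x} : Set ↥(centralizer ({(x : G)} : Set G)))) =>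
        ((t : ↥(centralizer ({(x : G)} : Set G))) : G)) hn
      exact h6
    have h6 : ((w₀ ^ 5 : Subgroup.centralizer ({z} : Set G)) : G) ^ 5 ^ n = 1 := by
      rw [SubmonoidClass.coe_pow, ← pow_mul, mul_comm, pow_mul, hn', one_pow]
    exact Subtype.ext (MFive.eq_one_of_pow (Odd.pow (by decide)) h6 (MFive.pow_four H.h h5))
  obtain ⟨i, hi⟩ := exists_fr_ne hs5 ht1 hst L.fx
  -- the element `x₁`
  have hcw : Commute (x ^ i) w₀ := (show Commute x w₀ from hw₀x.symm).pow_left i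
  have hx5 : x ^ 5 = 1 := by rw [← L.ox, pow_orderOf_eq_one]
  have hx₁D : ((x ^ i * w₀ : Subgroup.centralizer ({z} : Set G)) : G) ∈ centralizer ({(x : G)} : Set G) := by
    rw [mem_centralizer_singleton_iff]
    have h5 : (x ^ i * w₀) * x = x * (x ^ i * w₀) := by
      have h6 : Commute (x ^ i * w₀) x := ((Commute.refl x).pow_left i).mul_left hw₀x
      exact h6
    exact congrArg Subtype.val h5
  have hρx₁ : ρ ⟨_, hx₁D⟩ ≠ 1 := by
    have h5 : (⟨_, hx₁D⟩ : ↥(centralizer ({(x : G)} : Set G))) =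
        self (x : G) ^ i * (w : ↥(centralizer ({(x : G)} : Set G))) := rfl
    rw [h5, map_mul, map_pow, hR.ρN _ hR.rad.xN, one_pow, one_mul]
    exact hρw
  have hx₁o : orderOf (x ^ i * w₀) = 5 := by
    refine orderOf_eq_prime ?_ ?_
    · rw [hcw.mul_pow, hw5, ← pow_mul, mul_comm, pow_mul, hx5, one_pow, one_mul]
    · intro h5
      apply hρx₁
      have h7 : ((x ^ i * w₀ : Subgroup.centralizer ({z} : Set G)) : G) = 1 :=
        congrArg (fun t : Subgroup.centralizer ({z} : Set G) => (t : G)) h5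
      have h6 : (⟨_, hx₁D⟩ : ↥(centralizer ({(x : G)} : Set G))) = 1 := Subtype.ext h7
      rw [h6, map_one]
  have hfi : fr (pi (x ^ i * w₀)) ≠ 2 ^ 8 := by rw [map_mul, map_pow]; exact hi
  obtain ⟨k, j, hk⟩ : ∃ (k : G) (j : ℕ), k * ((x ^ i * w₀ : Subgroup.centralizer ({z} : Set G)) : G) * k⁻¹ = (x : G) ^ j := by
    rcases H.I.ranks _ (orderOf_pi H.h Nat.prime_five ho hx₁o) with h5 | h5 | h5
    · obtain ⟨k, hk⟩ := conj_same H.h L.ox hx₁o (L.fx.trans h5.symm)
      exact ⟨k, 1, by rw [hk, pow_one]⟩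
    · exact conj_four H L.ox L.fx hx₁o h5
    · exact absurd h5 hfi
  refine trick hxo (by rw [Subgroup.orderOf_coe, hx₁o]) hk hro ?_ hd hx₁D hρ hρx₁ ?_
  · -- `r'` commutes with `x₁`
    have h5 : Commute r' (x : G) := mem_centralizer_singleton_iff.1 hd
    have h6 : Commute r' (w₀ : G) := (congrArg Subtype.val hwr).symm
    have h7 : Commute r' ((x : G) ^ i * w₀) := (h5.pow_right i).mul_right h6
    exact h7
  · intro r₂ h5 h6 h7 j
    obtain ⟨g, hg⟩ := hR.conj_mul hna (hR.mem r₂ h5 h6) (fun h8 => h7 (hzp _ h8)) (j : ℤ)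
    refine ⟨g, ?_⟩
    have h8 := congrArg Subtype.val hg
    rw [zpow_natCast] at h8
    exact h8

end

end Cfsg.Agent.H609.T5.Five
end

-- part: H609/T5/MFive
section
set_option linter.all false

/-!
# The weak pair row of the Monster, `p = 5`

`row_of_model` : rows of the Monster from the pairs of the model; `row_m_five`.
-/

set_option autoImplicit false
set_option maxRecDepth 100000

namespace Cfsg.Agent.H609.T5

open Subgroup Cfsg
open Cfsg.Agent.H533.T5 (WPair WRow)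
open Cfsg.Agent.MonsterU Cfsg.Agent.MonsterX Cfsg.Agent.MonsterX.Model Cfsg.Agent.MonsterX.MainPack
  Cfsg.Agent.MonsterX.MainSimple Cfsg.Agent.MonsterX.MainBasic
open Cfsg.Agent.MonsterU.Assembly Cfsg.Agent.MonsterP
open Cfsg.Agent.LThreeMB (KChart.chart)

theorem na_of_card {K : Type*} [Group K] [Finite K] [hs : IsSimpleGroup K] (hc : ¬ (Nat.card K).Prime) :
    ¬ IsMulCommutative K := by
  intro h1
  let _ : CommGroup K := { (inferInstance : Group K) with mul_comm := fun a b => h1.is_comm.comm a b }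
  exact hc IsSimpleGroup.prime_card

end Cfsg.Agent.H609.T5
end
end
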