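import Cfsg.Agent.H533.T5.SporDefs_m3
import Cfsg.Agent.CpAut.Alt
import Cfsg.Agent.H824.ProdLem
import Cfsg.Agent.H594.HerDimTwo
import Cfsg.Agent.H609.Inv.Base
import Cfsg.Agent.KFacts.J2.Facts
import Cfsg.Agent.J2Type.FiveFus
import Cfsg.Agent.BpSpor.Row.J2
import Cfsg.Agent.FastGrp
import Cfsg.Agent.Prune
set_option linter.all false

section
prune_inst 0x7f00000000000000000000000000000000000000000000000000000000000000000000000000000000000000000000000000000000000000000000000000000000000000000000000000000000000000003fffffffffffffffffffffffffffbeffbdffffffff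

-- part: H201/T5Alt
section
set_option linter.all false
open scoped Cfsg.Agent.FastGrp

/-!
# The pair rows of the alternating groups (core T5)

`srow_alt`, `mrow_alt`, `wrow_alt` : for a prime `p ≥ 5` and `n ≥ 5`, the strong, middle and weak
pair rows of `alternatingGroup (Fin n)`.
-/

set_option autoImplicit false

namespace Cfsg.Agent.H201.T5Alt

open Equiv Equiv.Perm Cfsg.Agent.H533.T5 Cfsg.Agent.H957.T5M

section perm

variable {α : Type*} [Fintype α] [DecidableEq α]

/-- For four points in a row of `C`, some conjugate of `C` by a permutation of given sign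
differs from `C` by a three-cycle. -/
theorem exists_sigma (C : Perm α) (a : α) (h1 : C a ≠ a) (h2 : C (C a) ≠ a)
    (h3 : C (C (C a)) ≠ a) (s : ℤˣ) :
    ∃ σ : Perm α, sign σ = s ∧ (C⁻¹ * (σ * C * σ⁻¹)).IsThreeCycle := by
  have e12 : C a ≠ C (C a) := fun h => h1 (C.injective h).symm
  have e13 : C a ≠ C (C (C a)) := fun h => h2 (C.injective h).symm
  have e23 : C (C a) ≠ C (C (C a)) := fun h => e12 (C.injective h)
  have key : ∀ x y : α, C⁻¹ * swap (C x) (C y) * C = swap x y := by
    intro x y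
    rw [mul_assoc, inv_mul_eq_iff_eq_mul, mul_swap_eq_swap_mul]
  have key' : ∀ σ : Perm α, C⁻¹ * (σ * C * σ⁻¹) = (C⁻¹ * σ * C) * σ⁻¹ := by
    intro σ; group
  rcases Int.units_eq_one_or s with rfl | rfl
  · refine ⟨swap (C a) (C (C a)) * swap (C (C a)) (C (C (C a))), ?_, ?_⟩
    · rw [Perm.sign_mul, sign_swap e12, sign_swap e23]; rfl
    · have h : C⁻¹ * ((swap (C a) (C (C a)) * swap (C (C a)) (C (C (C a)))) * C *
          (swap (C a) (C (C a)) * swap (C (C a)) (C (C (C a))))⁻¹)
          = swap (C a) a * swap (C a) (C (C (C a))) := by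
        rw [key', mul_inv_rev, swap_inv, swap_inv]
        have h4 : C⁻¹ * (swap (C a) (C (C a)) * swap (C (C a)) (C (C (C a)))) * C
            = swap a (C a) * swap (C a) (C (C a)) := by
          rw [← key a (C a), ← key (C a) (C (C a))]; group
        rw [h4, swap_comm a (C a), mul_assoc]
        congr 1
        rw [← mul_assoc, swap_comm (C (C a)) (C (C (C a))), swap_comm (C a) (C (C a)),
          swap_comm (C a) (C (C (C a)))]
        rw [swap_comm (C (C a)) (C a)]
        have := swap_mul_swap_mul_swap (x := C (C (C a))) (y := C (C a)) (z := C a) e23.symm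
          e13.symm
        rw [swap_comm (C (C a)) (C a)] at this
        rw [this, swap_comm]
      rw [h]
      exact isThreeCycle_swap_mul_swap_same h1 e13 (Ne.symm h3)
  · refine ⟨swap (C a) (C (C a)), sign_swap e12, ?_⟩
    rw [key', key, swap_inv, swap_comm a (C a)]
    exact isThreeCycle_swap_mul_swap_same h1 e12 (Ne.symm h2)

theorem not_solvable (h5 : 5 ≤ Nat.card α) : ¬ Group.IsSolvable ↥(alternatingGroup α) := by
  intro hsol
  have h6 : IsSimpleGroup ↥(alternatingGroup α) := alternatingGroup.isSimpleGroup h5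
  have h7 := (IsSimpleGroup.comm_iff_isSolvable (G := ↥(alternatingGroup α))).mpr hsol
  have h8 : Subgroup.center ↥(alternatingGroup α) = ⊤ := by
    rw [eq_top_iff]
    intro z _
    rw [Subgroup.mem_center_iff]
    intro g
    exact h7 g z
  rw [alternatingGroup.center_eq_bot (by omega)] at h8
  exact bot_ne_top h8

/-- A three-cycle does not have `p`-power order, `p ≥ 5`. -/
theorem not_pow_of_three {p : ℕ} (hp : p.Prime) (hp5 : 5 ≤ p) {t : Perm α} (ht : t.IsThreeCycle) :
    ¬ ∃ k : ℕ, orderOf t = p ^ k := by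
  rintro ⟨k, hk⟩
  rw [ht.orderOf] at hk
  have h3 : (3 : ℕ) ∣ p ^ k := by rw [← hk]
  have h4 := (Nat.prime_dvd_prime_iff_eq Nat.prime_three hp).mp
    (Nat.prime_three.dvd_of_dvd_pow h3)
  omega

/-- Two elements of order `p` in the symmetric group of degree `p`. -/
theorem spair_cycle {p : ℕ} (hp : p.Prime) (hp5 : 5 ≤ p) (hα : Fintype.card α = p) (c d : Perm α)
    (hc : orderOf c = p) (hd : orderOf d = p) : SPair p (alternatingGroup α) c d := by
  have hcc : c.IsCycle := isCycle_of_prime_order'' (by rw [hα]; exact hp) (by rw [hα]; exact hc)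
  have hdc : d.IsCycle := isCycle_of_prime_order'' (by rw [hα]; exact hp) (by rw [hα]; exact hd)
  have hcs : c.support.card = p := by rw [← hcc.orderOf, hc]
  have hds : d.support.card = p := by rw [← hdc.orderOf, hd]
  have hcu : c.support = Finset.univ := Finset.eq_univ_of_card _ (by rw [hcs, hα])
  -- `d = τ c⁻¹ τ⁻¹`
  obtain ⟨τ, hτ⟩ := isConj_iff.mp (hcc.inv.isConj hdc (by rw [support_inv, hcs, hds]))
  -- four points in a row for `C = c⁻¹`
  have hmove : ∀ (k : ℕ) (a : α), 0 < k → k < p → (c⁻¹ ^ k) a ≠ a := by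
    intro k a hk1 hk2 h
    have h1 : c⁻¹ ^ k = 1 := by
      refine (hcc.inv.pow_eq_one_iff' (x := a) ?_).mpr h
      have : a ∈ c⁻¹.support := by rw [support_inv, hcu]; exact Finset.mem_univ a
      exact mem_support.mp this
    have h2 : orderOf c⁻¹ ∣ k := orderOf_dvd_of_pow_eq_one h1
    rw [orderOf_inv, hc] at h2
    exact absurd (Nat.le_of_dvd hk1 h2) (by omega)
  have hne : Nonempty α := by
    rw [← Fintype.card_pos_iff, hα]; omega
  obtain ⟨a⟩ := hne
  obtain ⟨σ, hσs, hσ⟩ := exists_sigma c⁻¹ a (by simpa using hmove 1 a (by omega) (by omega))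
    (by simpa [pow_succ] using hmove 2 a (by omega) (by omega))
    (by simpa [pow_succ] using hmove 3 a (by omega) (by omega)) (sign τ)
  have hg : σ * τ⁻¹ ∈ alternatingGroup α := by
    rw [mem_alternatingGroup, Perm.sign_mul, sign_inv, hσs]
    exact Int.units_mul_self _
  have hgd : c * ((σ * τ⁻¹) * d * (σ * τ⁻¹)⁻¹) = (c⁻¹)⁻¹ * (σ * c⁻¹ * σ⁻¹) := by
    rw [← hτ]; group
  refine ⟨⟨σ * τ⁻¹, hg, ?_⟩, ⟨σ * τ⁻¹, hg, ?_⟩⟩
  · intro hsol
    set d' := (σ * τ⁻¹) * d * (σ * τ⁻¹)⁻¹ with hd'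
    set K := Subgroup.closure ({c, d'} : Set (Perm α)) with hK
    have hcK : c ∈ K := Subgroup.subset_closure (by simp)
    have hdK : d' ∈ K := Subgroup.subset_closure (by simp)
    have ht : MulAction.IsPretransitive K α := by
      refine ⟨fun x y => ?_⟩
      obtain ⟨i, hi⟩ := hcc.exists_pow_eq (x := x) (y := y)
        (mem_support.mp (by rw [hcu]; exact Finset.mem_univ x))
        (mem_support.mp (by rw [hcu]; exact Finset.mem_univ y))
      exact ⟨⟨c ^ i, pow_mem hcK i⟩, hi⟩
    have hprim : MulAction.IsPreprimitive K α :=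
      MulAction.IsPreprimitive.of_prime_card (by rw [Nat.card_eq_fintype_card, hα]; exact hp)
    have hle := alternatingGroup_le_of_isPreprimitive_of_isThreeCycle_mem hprim hσ
      (by rw [← hgd]; exact mul_mem hcK hdK)
    have h5 : Group.IsSolvable ↥(alternatingGroup α) :=
      Group.isSolvable_of_isSolvable_injective (f := Subgroup.inclusion hle)
        (Subgroup.inclusion_injective hle)
    exact not_solvable (by rw [Nat.card_eq_fintype_card, hα]; exact hp5) h5
  · rw [hgd]
    exact not_pow_of_three hp hp5 hσ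

end perm

section section_

variable {α : Type*} [Fintype α] [DecidableEq α]

/-- The even permutations which leave `Δ` invariant. -/
def stabS (Δ : Finset α) : Subgroup (alternatingGroup α) where
  carrier := {g | ∀ z, (g : Perm α) z ∈ Δ ↔ z ∈ Δ}
  one_mem' := fun z => Iff.rfl
  mul_mem' := fun {a b} ha hb z => (ha _).trans (hb z)
  inv_mem' := fun {a} ha z => by
    have := ha ((a : Perm α)⁻¹ z)
    have h2 : (a : Perm α) ((a : Perm α)⁻¹ z) = z := by simp
    rw [h2] at this
    exact this.symm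

/-- Restriction to `Δ`. -/
def resS (Δ : Finset α) : stabS Δ →* Perm {z // z ∈ Δ} where
  toFun g := ((g : alternatingGroup α) : Perm α).subtypePerm g.2
  map_one' := rfl
  map_mul' _ _ := rfl

theorem alt_le_map (Δ : Finset α) : alternatingGroup {z // z ∈ Δ} ≤
    ((⊤ : Subgroup (alternatingGroup α)).subgroupOf (stabS Δ)).map (resS Δ) := by
  intro t ht
  have h1 : ofSubtype t ∈ alternatingGroup α := by
    rw [mem_alternatingGroup, sign_ofSubtype]
    exact ht
  have h2 : (⟨ofSubtype t, h1⟩ : alternatingGroup α) ∈ stabS Δ :=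
    fun z => ofSubtype_apply_mem_iff_mem t z
  refine ⟨⟨_, h2⟩, Subgroup.mem_subgroupOf.mpr (Subgroup.mem_top _), ?_⟩
  exact subtypePerm_ofSubtype t

theorem orderOf_res {p : ℕ} (hp : p.Prime) {Δ : Finset α} (x : stabS Δ)
    (hx : orderOf (x : alternatingGroup α) = p) {a : α} (ha : a ∈ Δ)
    (hxa : ((x : alternatingGroup α) : Perm α) a ≠ a) : orderOf (resS Δ x) = p := by
  have h1 : orderOf (resS Δ x) ∣ p := by
    rw [← hx, Subgroup.orderOf_coe]; exact orderOf_map_dvd _ _
  rcases (Nat.dvd_prime hp).mp h1 with h | h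
  · exfalso
    rw [orderOf_eq_one_iff] at h
    apply hxa
    have := congrArg (fun f : Perm {z // z ∈ Δ} => ((f ⟨a, ha⟩ : {z // z ∈ Δ}) : α)) h
    exact this
  · exact h

theorem cycle_facts {p : ℕ} (hp : p.Prime) {x : Perm α} (hx : orderOf x = p) {a : α}
    (ha : x a ≠ a) : (x.cycleOf a).IsCycle ∧ (x.cycleOf a).support.card = p ∧
      a ∈ (x.cycleOf a).support ∧ ∀ z, x z ∈ (x.cycleOf a).support ↔ z ∈ (x.cycleOf a).support := by
  have h1 : (x.cycleOf a).IsCycle := isCycle_cycleOf x ha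
  refine ⟨h1, ?_, ?_, ?_⟩
  · rw [← h1.orderOf]
    have h2 : orderOf (x.cycleOf a) ∣ p := by
      rw [← hx]; exact orderOf_cycleOf_dvd_orderOf x a
    rcases (Nat.dvd_prime hp).mp h2 with h | h
    · exact absurd (orderOf_eq_one_iff.mp h) h1.ne_one
    · exact h
  · rw [mem_support_cycleOf_iff]
    exact ⟨SameCycle.refl _ _, mem_support.mpr ha⟩
  · intro z
    rw [mem_support_cycleOf_iff, mem_support_cycleOf_iff, sameCycle_apply_right]

theorem spair_of_mem {p : ℕ} (hp : p.Prime) (hp5 : 5 ≤ p) {Δ : Finset α} (hΔ : Δ.card = p)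
    (x y : alternatingGroup α) (hx : orderOf x = p) (hy : orderOf y = p)
    (hxM : ∀ z, (x : Perm α) z ∈ Δ ↔ z ∈ Δ) (hyM : ∀ z, (y : Perm α) z ∈ Δ ↔ z ∈ Δ)
    {a : α} (ha : a ∈ Δ) (hxa : (x : Perm α) a ≠ a) {b : α} (hb : b ∈ Δ)
    (hyb : (y : Perm α) b ≠ b) : SPair p (⊤ : Subgroup (alternatingGroup α)) x y := by
  have hcard : Fintype.card {z // z ∈ Δ} = p := by rw [Fintype.card_coe, hΔ]
  have hpair : SPair p (alternatingGroup {z // z ∈ Δ}) (resS Δ ⟨x, hxM⟩) (resS Δ ⟨y, hyM⟩) :=
    spair_cycle hp hp5 hcard _ _ (orderOf_res hp ⟨x, hxM⟩ hx ha hxa)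
      (orderOf_res hp ⟨y, hyM⟩ hy hb hyb)
  have h := SPair.of_section (S := (⊤ : Subgroup (alternatingGroup α))) hp (resS Δ)
    (alt_le_map Δ) (c := ⟨x, hxM⟩) (d := ⟨y, hyM⟩) hpair
  exact h

/-- **All pairs of elements of order `p ≥ 5` of an alternating group.** -/
theorem spair_alt {p : ℕ} (hp : p.Prime) (hp5 : 5 ≤ p) (x y : alternatingGroup α)
    (hx : orderOf x = p) (hy : orderOf y = p) :
    SPair p (⊤ : Subgroup (alternatingGroup α)) x y := by
  have hmv : ∀ z : alternatingGroup α, orderOf z = p → ∃ a : α, (z : Perm α) a ≠ a := by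
    intro z hz
    by_contra h
    push Not at h
    have : z = 1 := Subtype.ext (Equiv.ext h)
    rw [this, orderOf_one] at hz
    exact hp.one_lt.ne hz
  obtain ⟨a, ha⟩ := hmv x hx
  obtain ⟨b, hb⟩ := hmv y hy
  have hx' : orderOf (x : Perm α) = p := by rw [Subgroup.orderOf_coe]; exact hx
  have hy' : orderOf (y : Perm α) = p := by rw [Subgroup.orderOf_coe]; exact hy
  obtain ⟨hxc, hxs, hxa, hxi⟩ := cycle_facts hp hx' ha
  obtain ⟨hyc, hys, hyb, hyi⟩ := cycle_facts hp hy' hb
  set Δ := ((x : Perm α).cycleOf a).support with hΔ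
  set Δ' := ((y : Perm α).cycleOf b).support with hΔ'
  -- an even permutation carrying `Δ'` to `Δ`
  obtain ⟨g₀, hg₀, hg⟩ : ∃ g₀ : Perm α, g₀ ∈ alternatingGroup α ∧ ∀ z, z ∈ Δ ↔ g₀⁻¹ z ∈ Δ' := by
    obtain ⟨τ, hτ⟩ := isConj_iff.mp (hyc.isConj hxc (by rw [hys, hxs]))
    have h1 : ∀ z, z ∈ Δ ↔ τ⁻¹ z ∈ Δ' := by
      intro z
      rw [hΔ, hΔ', ← hτ, mem_support, mem_support, Perm.mul_apply, Perm.mul_apply, ne_eq,
        ne_eq, ← Perm.eq_inv_iff_eq (f := τ)]
    rcases Int.units_eq_one_or (sign τ) with h | h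
    · exact ⟨τ, h, h1⟩
    · refine ⟨swap a ((x : Perm α) a) * τ, ?_, ?_⟩
      · rw [mem_alternatingGroup, Perm.sign_mul, sign_swap (Ne.symm ha), h]; rfl
      · intro z
        rw [mul_inv_rev, Perm.mul_apply, swap_inv, ← h1]
        have hxa' : (x : Perm α) a ∈ Δ := (hxi a).mpr hxa
        by_cases hz1 : z = a
        · rw [hz1, swap_apply_left]; exact ⟨fun _ => hxa', fun _ => hxa⟩
        · by_cases hz2 : z = (x : Perm α) a
          · rw [hz2, swap_apply_right]; exact ⟨fun _ => hxa, fun _ => hxa'⟩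
          · rw [swap_apply_of_ne_of_ne hz1 hz2]
  refine SPair.conj_right (s := (⟨g₀, hg₀⟩ : alternatingGroup α)) (Subgroup.mem_top _) ?_
  refine spair_of_mem hp hp5 hxs x _ hx ?_ hxi ?_ hxa ha (b := g₀ b) ?_ ?_
  · rw [← hy]
    exact orderOf_injective (MulAut.conj (⟨g₀, hg₀⟩ : alternatingGroup α)).toMonoidHom
      (MulAut.conj _).injective y
  · intro z
    have e1 : g₀⁻¹ ((g₀ * (y : Perm α) * g₀⁻¹) z) = (y : Perm α) (g₀⁻¹ z) := by simp
    show (g₀ * (y : Perm α) * g₀⁻¹) z ∈ Δ ↔ z ∈ Δ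
    rw [hg, hg z, e1, hyi]
  · rw [hg]
    have e2 : g₀⁻¹ (g₀ b) = b := by simp
    rw [e2]; exact hyb
  · have e3 : (g₀ * (y : Perm α) * g₀⁻¹) (g₀ b) = g₀ ((y : Perm α) b) := by simp
    show (g₀ * (y : Perm α) * g₀⁻¹) (g₀ b) ≠ g₀ b
    rw [e3]
    exact fun h => hb (g₀.injective h)

end section_

section row

/-- Automorphisms of order `p ≥ 5` of alternating groups are inner. -/
theorem inner_alt {n p : ℕ} (hn : 5 ≤ n) (hp : p.Prime) (hp5 : 5 ≤ p)
    (a : MulAut (alternatingGroup (Fin n))) (ha : orderOf a = p) :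
    a ∈ (MulAut.conj : alternatingGroup (Fin n) →* MulAut (alternatingGroup (Fin n))).range := by
  rcases Nat.lt_or_ge n 7 with h | h
  · have hna := Cfsg.Agent.CpAut.not_comm_alt hn
    have : IsSimpleGroup (alternatingGroup (Fin n)) :=
      alternatingGroup.isSimpleGroup (by simpa using hn)
    have hinj := conj_injective_of_simple (S := alternatingGroup (Fin n)) hna
    have hcr : Nat.card (MulAut.conj : alternatingGroup (Fin n) →*
        MulAut (alternatingGroup (Fin n))).range = Nat.card (alternatingGroup (Fin n)) :=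
      (Nat.card_congr (MonoidHom.ofInjective hinj).toEquiv).symm
    have hmul := Subgroup.card_mul_index (MulAut.conj : alternatingGroup (Fin n) →*
        MulAut (alternatingGroup (Fin n))).range
    apply mem_conj_range_of_orderOf hp ?_ a ha
    have hidx : (MulAut.conj : alternatingGroup (Fin n) →*
        MulAut (alternatingGroup (Fin n))).range.index ∣ 4 := by
      rw [hcr] at hmul
      interval_cases n
      · rw [Cfsg.Agent.H594.HerDimTwo.card_mulAut_alt] at hmul
        have h5 : Nat.card (alternatingGroup (Fin 5)) = 60 := by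
          rw [nat_card_alternatingGroup, Nat.card_eq_fintype_card, Fintype.card_fin]; rfl
        rw [h5] at hmul
        have : (MulAut.conj : alternatingGroup (Fin 5) →*
          MulAut (alternatingGroup (Fin 5))).range.index = 2 := by omega
        rw [this]; norm_num
      · rw [Cfsg.Agent.H824.ProdLem.card_aut_a6] at hmul
        have h5 : Nat.card (alternatingGroup (Fin 6)) = 360 := by
          rw [nat_card_alternatingGroup, Nat.card_eq_fintype_card, Fintype.card_fin]; rfl
        rw [h5] at hmul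
        have : (MulAut.conj : alternatingGroup (Fin 6) →*
          MulAut (alternatingGroup (Fin 6))).range.index = 4 := by omega
        rw [this]
    intro hd
    have := Nat.le_of_dvd (by norm_num) (hd.trans hidx)
    omega
  · obtain ⟨g, hg⟩ := Cfsg.Agent.CpAut.autInner_alt h hp (by omega) a ha
    exact ⟨g, hg.symm⟩

/-- **The strong row of the alternating groups.** -/
theorem srow_alt {n p : ℕ} (hn : 5 ≤ n) (hp : p.Prime) (hp5 : 5 ≤ p) :
    SRow p (alternatingGroup (Fin n)) := by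
  have : IsSimpleGroup (alternatingGroup (Fin n)) :=
    alternatingGroup.isSimpleGroup (by simpa using hn)
  exact SRow.of_inner (Cfsg.Agent.CpAut.not_comm_alt hn)
    (fun a ha => inner_alt hn hp hp5 a ha) (fun x y hx hy => spair_alt hp hp5 x y hx hy)

/-- The middle row of the alternating groups. -/
theorem mrow_alt {n p : ℕ} (hn : 5 ≤ n) (hp : p.Prime) (hp5 : 5 ≤ p) :
    MRow p (alternatingGroup (Fin n)) :=
  fun c d hc hd => SPair.middle hp (srow_alt hn hp hp5 c d hc hd)

end row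

end Cfsg.Agent.H201.T5Alt
end

-- part: H609/T5/MMidFive
section
set_option linter.all false
open scoped Cfsg.Agent.FastGrp

/-!
# The middle rows of `J2` and of the Monster, `p = 5` (for S2275)

`Al.mpair` : two elements with conjugates outside of the kernel of `ρ : C(x) → A` form a middle pair if all pairs of
`A` do.  `JTwo.mpair` : the pairs of elements of order 5 of `J2`, through `C(w) → A₅`.
`mrow_m_five : Spor.IsoM K → MRow 5 K`, no hypotheses.
-/

set_option autoImplicit false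
set_option maxRecDepth 100000

namespace Cfsg.Agent.H609.T5

open Subgroup Cfsg
open Cfsg.Agent.H957.T5M (MPair MRow)

section al

variable {G : Type*} [Group G] {A : Type*} [Group A] {x : G} {ρ : ↥(centralizer ({x} : Set G)) →* A}

/-- **Middle pairs from the section `C(x) → A`.** -/
theorem Al.mpair {p : ℕ} (hp : p.Prime) (hρ : Function.Surjective ρ)
    (hA : ∀ a b : A, orderOf a = p → orderOf b = p → MPair p (⊤ : Subgroup A) a b)
    {r s : G} (hr : Al x ρ r) (hs : Al x ρ s) (hrp : orderOf r = p) (hsp : orderOf s = p) :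
    MPair p (⊤ : Subgroup G) r s := by
  obtain ⟨g, hg, hgr⟩ := hr
  obtain ⟨k, hk, hks⟩ := hs
  have ho : ∀ {t : G} (c : G) (hc : c * t * c⁻¹ ∈ centralizer ({x} : Set G)), orderOf t = p →
      ρ ⟨c * t * c⁻¹, hc⟩ ≠ 1 → orderOf (ρ ⟨c * t * c⁻¹, hc⟩) = p := by
    intro t c hc ht h1
    have h2 : (⟨c * t * c⁻¹, hc⟩ : ↥(centralizer ({x} : Set G))) ^ p = 1 := by
      apply Subtype.ext
      show (c * t * c⁻¹) ^ p = 1
      rw [conj_pow, ← ht, pow_orderOf_eq_one]
      group
    have : Fact p.Prime := ⟨hp⟩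
    exact orderOf_eq_prime (by rw [← map_pow, h2, map_one]) h1
  refine MPair.conj_left (mem_top g) (MPair.conj_right (mem_top k) ?_)
  refine MPair.of_section (M := centralizer ({x} : Set G)) (S := ⊤) (T := ⊤) ρ ?_
    (c := ⟨g * r * g⁻¹, hg⟩) (d := ⟨k * s * k⁻¹, hk⟩) (hA _ _ (ho g hg hrp hgr) (ho k hk hsp hks))
  intro a _
  obtain ⟨d, rfl⟩ := hρ a
  exact ⟨d, mem_subgroupOf.2 (mem_top _), rfl⟩

end al

namespace JTwo

open Cfsg.Agent.J2Type Cfsg.Agent.J2Type.SylowFive Cfsg.Agent.J2Type.CentQuot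

variable {G : Type*} [Group G] [Finite G]

/-- the class of a good element is not contained in `⟨w⟩` -/
theorem exists_ne (hG : Nat.card G = 604800) {P : Sylow 5 G} {w : G} (hw : Good w) (hwP : w ∈ P)
    (hN : Nat.card (normalizer ((P : Subgroup G) : Set G)) = 300) :
    ∃ c : G, c * w * c⁻¹ ∈ P ∧ c * w * c⁻¹ ∉ zpowers w := by
  by_contra hcon
  push Not at hcon
  obtain ⟨-, h50⟩ := hw.key hG hwP
  have hO := card_O hG hwP
  rw [h50, hN] at hO
  have h6 : Nat.card (O P w) = 6 := by omega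
  have h1 : O P w ⊆ (zpowers w : Set G) := by
    rintro y ⟨hy, hc⟩
    obtain ⟨c, rfl⟩ := isConj_iff.1 hc
    exact hcon c hy
  have h2 : Nat.card (O P w) ≤ Nat.card (zpowers w : Set G) := Nat.card_mono (Set.toFinite _) h1
  have h3 : Nat.card (zpowers w : Set G) = 5 := by
    rw [← hw.1, ← Nat.card_zpowers]
    rfl
  omega

/-- **All elements of order 5 of `J2` have images in `A₅`.** -/
theorem exists_al (h : Spor.IsoJ2 G) : ∃ (w : G) (ρ : ↥(centralizer ({w} : Set G)) →* alternatingGroup (Fin 5)),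
    Function.Surjective ρ ∧ ∀ r : G, orderOf r = 5 → Al w ρ r := by
  have h5 : Fact (Nat.Prime 5) := ⟨Nat.prime_five⟩
  obtain ⟨z, u, Q, v, ρ, D⟩ := KFacts.J2.Facts.exists_dat_of h
  have hF := D.F
  obtain ⟨f, U, V, H0, F⟩ := CentU.main hF
  have hG := Order.card_of_fus hF
  have h60 : Nat.card H0 = 60 := by
    have h1 := Order.card_centralizer_u hF
    rw [F.str.card] at h1
    omega
  obtain ⟨w, hw⟩ := exists_prime_orderOf_dvd_card' (G := H0) 5 (by rw [h60]; norm_num)
  have hw5 : orderOf (w : G) = 5 := by rw [orderOf_coe]; exact hw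
  have hgood := Cent5.good_of_mem hF F h60 w.2 hw5
  obtain ⟨e⟩ := Cent5.exists_equiv_CQ hF F h60 hG w.2 hw5
  -- a Sylow subgroup containing `w`
  obtain ⟨P, hP⟩ : ∃ P : Sylow 5 G, zpowers (w : G) ≤ P := by
    have h1 : IsPGroup 5 (zpowers (w : G)) := IsPGroup.iff_card.2 ⟨1, by rw [Nat.card_zpowers, hw5, pow_one]⟩
    exact h1.exists_le_sylow
  have hwP : (w : G) ∈ P := hP (mem_zpowers _)
  have hN := (FiveFus.sylow_five hF P).2.2.1
  obtain ⟨c, hc, hcw⟩ := exists_ne hG hgood hwP hN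
  let τ : ↥(centralizer ({(w : G)} : Set G)) →* alternatingGroup (Fin 5) :=
    e.toMonoidHom.comp (QuotientGroup.mk' (cyc (w : G)))
  have hτ : ∀ (y : G) (hy : y ∈ centralizer ({(w : G)} : Set G)), y ∉ zpowers (w : G) → τ ⟨y, hy⟩ ≠ 1 := by
    intro y hy hyw h1
    apply hyw
    have h2 : QuotientGroup.mk' (cyc (w : G)) ⟨y, hy⟩ = 1 := by
      apply e.injective
      rw [map_one]
      exact h1
    exact mem_cyc.1 ((QuotientGroup.eq_one_iff _).1 h2)
  refine ⟨w, τ, e.surjective.comp (QuotientGroup.mk'_surjective _), fun r hr => ?_⟩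
  obtain ⟨g, hg⟩ := SylowFive.exists_conj_mem_sylow P (y := r) (n := 1) (by rw [hr]; norm_num)
  have hPC := sylow_le_centralizer hG P hwP
  by_cases hrw : g * r * g⁻¹ ∈ zpowers (w : G)
  · -- a power of `w`
    obtain ⟨k, hk⟩ := mem_zpowers_iff.1 hrw
    have e1 : (c * g) * r * (c * g)⁻¹ = (c * w * c⁻¹) ^ k := by
      rw [conj_zpow, hk]
      group
    have hm : (c * g) * r * (c * g)⁻¹ ∈ P := by
      rw [e1]
      exact (P : Subgroup G).zpow_mem hc k
    refine ⟨c * g, hPC hm, hτ _ _ fun h1 => ?_⟩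
    -- then `c w c⁻¹ ∈ ⟨w⟩`
    apply hcw
    have ho : orderOf ((c * (w : G) * c⁻¹) ^ k) = 5 := by
      rw [← e1, ← MulAut.conj_apply, MulEquiv.orderOf_eq, hr]
    have ho2 : orderOf (c * (w : G) * c⁻¹) = 5 := by
      rw [← MulAut.conj_apply, MulEquiv.orderOf_eq, hw5]
    have h3 : zpowers ((c * (w : G) * c⁻¹) ^ k) = zpowers (c * (w : G) * c⁻¹) :=
      Subgroup.eq_of_le_of_card_ge (zpowers_le.2 (zpow_mem_zpowers _ k)) (by rw [Nat.card_zpowers, Nat.card_zpowers, ho, ho2])
    have h4 : c * (w : G) * c⁻¹ ∈ zpowers ((c * (w : G) * c⁻¹) ^ k) := by rw [h3]; exact mem_zpowers _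
    rw [← e1] at h4
    exact zpowers_le.2 h1 h4
  · exact ⟨g, hPC hg, hτ _ _ hrw⟩

/-- **The pairs of elements of order 5 of `J2`.** -/
theorem mpair (h : Spor.IsoJ2 G) {x y : G} (hx : orderOf x = 5) (hy : orderOf y = 5) :
    MPair 5 (⊤ : Subgroup G) x y := by
  obtain ⟨w, ρ, hρ, hal⟩ := exists_al h
  exact Al.mpair Nat.prime_five hρ (fun a b ha hb => H957.T5M.SPair.middle Nat.prime_five
    (H201.T5Alt.spair_alt Nat.prime_five le_rfl a b ha hb)) (hal x hx) (hal y hy) hx hy

end JTwo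

namespace Five

open Cfsg.Agent.MonsterU Cfsg.Agent.MFive Cfsg.Agent.BpTab Cfsg.Agent.BpSpor.M5 Cfsg.Agent.H847
open Cfsg.Agent.LThreeMB (fr XX Zx zD self toXX toCC be exists_XX_equiv)
open Cfsg.Agent.MonsterU.Ch
open Cfsg.Agent.MonsterU.Lam2 (L2)
open Cfsg.Spor (Co1)

universe u

/-- **The middle pairs of elements of order 5.** -/
theorem mpair {G : Type u} [Group G] {Q : Subgroup G} {z : G} {eta : G → L2}
    {pi : Subgroup.centralizer ({z} : Set G) →* Co1} [Finite G] (H : Inp Q z eta pi) {r s : G}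
    (hr : orderOf r = 5) (hs : orderOf s = 5) : MPair 5 (⊤ : Subgroup G) r s := by
  obtain ⟨P, x, a, b, c, u, L⟩ := exists_lifts H.h
  obtain ⟨f1, f2, f3, ⟨N, ρ, S, hR⟩, hcon⟩ := exists_local H L.ox L.fx
  have hfA : Finite (XX (pi x)) := Finite.of_surjective ρ hR.surj
  exact Al.mpair Nat.prime_five hR.surj (fun a b ha hb => JTwo.mpair hR.iso ha hb) (al_all H L hR hcon hr)
    (al_all H L hR hcon hs) hr hs

end Five

open Cfsg.Agent.MonsterU Cfsg.Agent.MonsterX Cfsg.Agent.MonsterX.Model Cfsg.Agent.MonsterX.MainPack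
  Cfsg.Agent.MonsterX.MainSimple Cfsg.Agent.MonsterX.MainBasic
open Cfsg.Agent.MonsterU.Assembly Cfsg.Agent.MonsterP
open Cfsg.Agent.LThreeMB (KChart.chart)

/-- the pairs of elements of order 5 of the model -/
theorem mpair_five_model {r s : ↥InstData.M.G} (hr : orderOf r = 5) (hs : orderOf s = 5) :
    MPair 5 (⊤ : Subgroup ↥InstData.M.G) r s := by
  have hfin := MFive.Row.finite_model
  exact Five.mpair ⟨KChart.chart KDone.lft MFive.Row.hc, BpSpor.M5.trNe,
    CpAutBFive.Closed.coFive H546.MFiveFull.hJ, H546.MFiveFull.hJ, CpAutBFive.Closed.hnEight, BpSpor.M5.hasPair,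
    BpSpor.M5.exists_k BpSpor.M5.hA, H546.MFiveFull.card_model, fun r hr => CpAutBFive.EvenRow.cases hr⟩ hr hs

/-- **The middle row of the Monster, `p = 5`.** -/
theorem mrow_m_five {K : Type*} [Group K] [Finite K] [IsSimpleGroup K] (h : Spor.IsoM K) : MRow 5 K :=
  mrow_of_model_m Nat.prime_five (by norm_num) (fun _ _ hr hs => mpair_five_model hr hs) h

end Cfsg.Agent.H609.T5
end
end
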